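import Cfsg.Agent.H456.LD.HN.Tab
import Cfsg.Agent.SmallSimple.TheoremCCor
import Cfsg.Agent.H173.RS.HN
import Cfsg.Agent.H315.PwHN
import Cfsg.Agent.H570.Ore.Blk_m3
import Mathlib
import Cfsg.Agent.H653.CycSign
import Cfsg.Agent.S4698
import Cfsg.Agent.H494.R4.HN
import Cfsg.Agent.H597.Degrees
import Cfsg.Agent.H360.LD.RowJ3_m3
import Cfsg.Agent.Blocks.ExtendedFMT
import Cfsg.Agent.H270.Crit.Base
import Cfsg.Agent.S2082
import Cfsg.Agent.Lib.SieveFast
import Cfsg.Agent.Lib.ListFast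
import Cfsg.Agent.H732.DS.McLDeg
import Cfsg.Agent.H174.Two.McL
import Cfsg.Agent.H489.OutSpor
import Cfsg.Agent.H678.Codeg
import Cfsg.Agent.H686.CharKit
import Cfsg.Agent.Prune
set_option linter.all false

section
prune_inst 0x7ffdfefcffa8bddfffff7e3fffd9dffe11c4cfffffdffb43ffe9eb9fcf9f233739e5fba51de058ffde57649430b87853f97eeeffe86bdc7ffffd7ff41ffb6e0ff7ff378951d48c341fbe0fff93f377ea6f3ffffffffffffffffffffffffffffffffffbfeffff

-- part: H456/LD/RowHN
section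
set_option linter.all false
open scoped Cfsg.Agent.FastGrp

-- part: H456/LD/HN/Types
section
/-!
# The 7-types of the irreducible characters (helper456)

`P` a Sylow 7-subgroup of order 7 with `C(P) = P × K`, `K ≅ A₅`, `|N(P) : C(P)| = 6`, an element of `N(P)` exchanges the
classes of elements of order 5 of `K`.  `T P χ k` is the sum of the `χ (x k)`, `x ∈ P`, `x ≠ 1`.
-/

set_option autoImplicit false
set_option linter.unusedSectionVars false

open scoped ComplexConjugate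
open Cfsg Subgroup

namespace Cfsg.Agent.H456.LD.HN.Types

open Cfsg.Agent.Characters.Core Cfsg.Agent.Characters.Linear
open Cfsg.Agent.SmallSimple.PrimeDual Cfsg.Agent.SmallSimple.ThetaSetup
open Cfsg.Agent.SmallSimple.ThetaOrtho Cfsg.Agent.SmallSimple.ThetaGroup
open Cfsg.Agent.SmallSimple.ThetaCount Cfsg.Agent.SmallSimple.TheoremC Cfsg.Agent.SmallSimple.TheoremCCor
open Cfsg.Agent.H456.LD.HN.Tab (A5 t2 z5)

universe u

instance fact7 : Fact (Nat.Prime 7) := ⟨by norm_num⟩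

variable {G : Type u} [Group G] [Finite G]

/-- The sum of the values at the `x k`, `x ∈ P`, `x ≠ 1`. -/
noncomputable def T (P : Subgroup G) (χ : G → ℂ) (k : G) : ℂ :=
  haveI := Fintype.ofFinite P
  ∑ x : P, χ (x * k) - χ k

theorem T_eq (P : Subgroup G) [Fintype P] (χ : G → ℂ) (k : G) : T P χ k = ∑ x : P, χ (x * k) - χ k := by
  unfold T
  congr 1
  exact Finset.sum_congr (by ext; simp only [_root_.Finset.mem_univ]) fun _ _ => rfl

theorem T_erase (P : Subgroup G) [Fintype P] [DecidableEq P] (χ : G → ℂ) (k : G) :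
    T P χ k = ∑ x ∈ (Finset.univ : Finset P).erase 1, χ (x * k) := by
  rw [T_eq, ← Finset.add_sum_erase _ _ (Finset.mem_univ (1 : P))]
  simp only [_root_.OneMemClass.coe_one, _root_.one_mul, _root_.Finset.mem_univ, _root_.Finset.sum_erase_eq_sub, _root_.add_sub_cancel]

/-- The local data. -/
structure Loc (P : Sylow 7 G) (K : Subgroup G) (ρ : A5 ≃* K) (n0 : G) : Prop where
  hK : IsComp 7 (P : Subgroup G) K
  hP : Nat.card P = 7
  idx : (centralizer ((P : Subgroup G) : Set G)).relIndex (normalizer ((P : Subgroup G) : Set G)) = 6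
  mem : n0 ∈ normalizer ((P : Subgroup G) : Set G)
  swap : ∃ k : K, n0 * (ρ z5 : K) * n0⁻¹ = ((k * (ρ z5) ^ 2 * k⁻¹ : K) : G)

variable {P : Sylow 7 G} {K : Subgroup G} {ρ : A5 ≃* K} {n0 : G}

/-- pulling back to `A₅` -/
noncomputable def pb (ρ : A5 ≃* K) (θ : IrrCharacter K) : IrrCharacter A5 :=
  ⟨(θ : K → ℂ) ∘ ρ, isIrr_comp ρ.toMonoidHom ρ.surjective θ.2⟩

theorem pb_apply (θ : IrrCharacter K) (a : A5) : (pb ρ θ : A5 → ℂ) a = (θ : K → ℂ) (ρ a) := rfl

theorem pb_inj : Function.Injective (pb ρ) := by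
  intro θ θ' h
  apply Subtype.ext
  funext k
  obtain ⟨a, rfl⟩ := ρ.surjective k
  rw [← pb_apply (ρ := ρ), h, pb_apply]

theorem pb_surj : Function.Surjective (pb ρ) := by
  intro χ
  refine ⟨⟨(χ : A5 → ℂ) ∘ ρ.symm, isIrr_comp ρ.symm.toMonoidHom ρ.symm.surjective χ.2⟩, ?_⟩
  apply Subtype.ext
  funext a
  show (χ : A5 → ℂ) (ρ.symm (ρ a)) = _
  rw [ρ.symm_apply_apply]

/-- the twist, as an irreducible character -/
noncomputable def twi (h : Loc P K ρ n0) (θ : IrrCharacter K) {n : G} (hn : n ∈ normalizer ((P : Subgroup G) : Set G)) :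
    IrrCharacter K := ⟨tw (θ : K → ℂ) n, isIrr_tw h.hK θ.2 hn⟩

theorem twi_one (h : Loc P K ρ n0) (θ : IrrCharacter K) {n : G} (hn : n ∈ normalizer ((P : Subgroup G) : Set G)) :
    (twi h θ hn : K → ℂ) 1 = (θ : K → ℂ) 1 := by
  show tw (θ : K → ℂ) n 1 = _
  rw [tw_apply h.hK _ hn]
  have h1 : (⟨n * ((1 : K) : G) * n⁻¹, conj_mem h.hK hn (1 : K).2⟩ : K) = 1 := Subtype.ext (by simp)
  rw [h1]

theorem twi_inj (h : Loc P K ρ n0) {θ θ' : IrrCharacter K} {n : G} (hn : n ∈ normalizer ((P : Subgroup G) : Set G))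
    (he : twi h θ hn = twi h θ' hn) : θ = θ' := by
  have h1 : tw (θ : K → ℂ) n = tw (θ' : K → ℂ) n := congrArg Subtype.val he
  apply Subtype.ext
  have h2 : ∀ φ : K → ℂ, tw (tw φ n) n⁻¹ = φ := fun φ => by
    rw [← tw_mul h.hK φ hn (inv_mem hn), mul_inv_cancel, tw_one]
  rw [← h2 (θ : K → ℂ), h1, h2]

/-- **The orbits.** -/
theorem orb_cases (h : Loc P K ρ n0) (θ : IrrCharacter K) :
    ((orb P K (θ : K → ℂ)).card = 1 ∧
      (((∑ θ' ∈ orb P K (θ : K → ℂ), (θ' : K → ℂ) 1 = 1) ∧ (∑ θ' ∈ orb P K (θ : K → ℂ), (θ' : K → ℂ) (ρ t2) = 1) ∧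
        (∑ θ' ∈ orb P K (θ : K → ℂ), (θ' : K → ℂ) (ρ z5) = 1)) ∨
      ((∑ θ' ∈ orb P K (θ : K → ℂ), (θ' : K → ℂ) 1 = 4) ∧ (∑ θ' ∈ orb P K (θ : K → ℂ), (θ' : K → ℂ) (ρ t2) = 0) ∧
        (∑ θ' ∈ orb P K (θ : K → ℂ), (θ' : K → ℂ) (ρ z5) = -1)) ∨
      ((∑ θ' ∈ orb P K (θ : K → ℂ), (θ' : K → ℂ) 1 = 5) ∧ (∑ θ' ∈ orb P K (θ : K → ℂ), (θ' : K → ℂ) (ρ t2) = 1) ∧
        (∑ θ' ∈ orb P K (θ : K → ℂ), (θ' : K → ℂ) (ρ z5) = 0)))) ∨
    ((orb P K (θ : K → ℂ)).card = 2 ∧ (∑ θ' ∈ orb P K (θ : K → ℂ), (θ' : K → ℂ) 1 = 6) ∧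
      (∑ θ' ∈ orb P K (θ : K → ℂ), (θ' : K → ℂ) (ρ t2) = -2) ∧
        (∑ θ' ∈ orb P K (θ : K → ℂ), (θ' : K → ℂ) (ρ z5) = 1)) := by
  classical
  obtain ⟨a, b, c, hall, hbc, ha1, hb1, hc1, hat, haz, hbt, hbz⟩ := Tab.tab
  have hself : θ ∈ orb P K (θ : K → ℂ) := mem_orb.2 ⟨1, one_mem _, tw_one _⟩
  have hdeg : ∀ θ' ∈ orb P K (θ : K → ℂ), (θ' : K → ℂ) 1 = (θ : K → ℂ) 1 := by
    intro θ' hθ'
    obtain ⟨n, hn, hn'⟩ := mem_orb.1 hθ'
    have h1 := twi_one h θ hn
    rw [← h1]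
    show (θ' : K → ℂ) 1 = tw (θ : K → ℂ) n 1
    rw [hn']
  have hone : (Tab.one' : A5 → ℂ) 1 = 1 := rfl
  have hpb1 : ∀ ψ : IrrCharacter K, (pb ρ ψ : A5 → ℂ) 1 = (ψ : K → ℂ) 1 := fun ψ => by rw [pb_apply, map_one]
  have huniq : ∀ (d : IrrCharacter A5), pb ρ θ = d → (∀ χ : IrrCharacter A5, (χ : A5 → ℂ) 1 = (d : A5 → ℂ) 1 → χ = d) →
      orb P K (θ : K → ℂ) = {θ} := by
    intro d hd hu
    rw [Finset.eq_singleton_iff_unique_mem]
    refine ⟨hself, fun θ' hθ' => ?_⟩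
    apply pb_inj (ρ := ρ)
    rw [hd]
    apply hu
    rw [hpb1, hdeg θ' hθ', ← hpb1, hd]
  rcases hall (pb ρ θ) with h1 | h1 | h1 | h1
  · left
    rw [huniq _ h1 (fun χ hχ => by
      rw [hone] at hχ
      rcases hall χ with h2 | h2 | h2 | h2 | h2
      · exact h2
      · rw [h2, Tab.four_one] at hχ; norm_num at hχ
      · rw [h2, ha1] at hχ; norm_num at hχ
      · rw [h2, hb1] at hχ; norm_num at hχ
      · rw [h2, hc1] at hχ; norm_num at hχ)]
    refine ⟨Finset.card_singleton _, Or.inl ?_⟩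
    simp only [Finset.sum_singleton]
    rw [← map_one ρ, ← pb_apply, ← pb_apply, ← pb_apply, h1]
    exact ⟨rfl, rfl, rfl⟩
  · left
    rw [huniq _ h1 (fun χ hχ => by
      rw [Tab.four_one] at hχ
      rcases hall χ with h2 | h2 | h2 | h2 | h2
      · rw [h2, hone] at hχ; norm_num at hχ
      · exact h2
      · rw [h2, ha1] at hχ; norm_num at hχ
      · rw [h2, hb1] at hχ; norm_num at hχ
      · rw [h2, hc1] at hχ; norm_num at hχ)]
    refine ⟨Finset.card_singleton _, Or.inr (Or.inl ?_)⟩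
    simp only [Finset.sum_singleton]
    rw [← map_one ρ, ← pb_apply, ← pb_apply, ← pb_apply, h1]
    exact ⟨Tab.four_one, Tab.four_t, Tab.four_z⟩
  · left
    rw [huniq _ h1 (fun χ hχ => by
      rw [ha1] at hχ
      rcases hall χ with h2 | h2 | h2 | h2 | h2
      · rw [h2, hone] at hχ; norm_num at hχ
      · rw [h2, Tab.four_one] at hχ; norm_num at hχ
      · exact h2
      · rw [h2, hb1] at hχ; norm_num at hχ
      · rw [h2, hc1] at hχ; norm_num at hχ)]
    refine ⟨Finset.card_singleton _, Or.inr (Or.inr ?_)⟩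
    simp only [Finset.sum_singleton]
    rw [← map_one ρ, ← pb_apply, ← pb_apply, ← pb_apply, h1]
    exact ⟨ha1, hat, haz⟩
  · right
    obtain ⟨B, hB⟩ := pb_surj (ρ := ρ) b
    obtain ⟨C, hC⟩ := pb_surj (ρ := ρ) c
    have hBC : B ≠ C := by
      rintro rfl
      exact hbc (hB.symm.trans hC)
    have hB1 : (B : K → ℂ) 1 = 3 := by rw [← hpb1, hB, hb1]
    have hC1 : (C : K → ℂ) 1 = 3 := by rw [← hpb1, hC, hc1]
    have hthree : ∀ ψ : IrrCharacter K, (ψ : K → ℂ) 1 = 3 → ψ = B ∨ ψ = C := by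
      intro ψ hψ
      rw [← hpb1] at hψ
      rcases hall (pb ρ ψ) with h2 | h2 | h2 | h2 | h2
      · rw [h2, hone] at hψ; norm_num at hψ
      · rw [h2, Tab.four_one] at hψ; norm_num at hψ
      · rw [h2, ha1] at hψ; norm_num at hψ
      · exact Or.inl (pb_inj (h2.trans hB.symm))
      · exact Or.inr (pb_inj (h2.trans hC.symm))
    -- the degrees are fixed
    have hfix : ∀ ψ : IrrCharacter K, (ψ : K → ℂ) 1 ≠ 3 → twi h ψ h.mem = ψ := by
      intro ψ hψ
      have h3 := twi_one h ψ h.mem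
      apply pb_inj (ρ := ρ)
      rw [← hpb1, ← hpb1] at h3
      rw [← hpb1] at hψ
      rcases hall (pb ρ ψ) with h2 | h2 | h2 | h2 | h2 <;>
      rcases hall (pb ρ (twi h ψ h.mem)) with h4 | h4 | h4 | h4 | h4 <;>
      rw [h2] at h3 hψ ⊢ <;> rw [h4] at h3 ⊢ <;>
      simp only [hone, Tab.four_one, ha1, hb1, hc1] at h3 hψ <;>
      first
      | rfl
      | (exfalso; revert h3 hψ; norm_num)
    have hswap : ¬ ((twi h B h.mem = B) ∧ (twi h C h.mem = C)) := by
      rintro ⟨e1, e2⟩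
      have hallfix : ∀ ψ : IrrCharacter K, twi h ψ h.mem = ψ := by
        intro ψ
        by_cases h3 : (ψ : K → ℂ) 1 = 3
        · rcases hthree ψ h3 with rfl | rfl
          · exact e1
          · exact e2
        · exact hfix ψ h3
      obtain ⟨k, hk⟩ := h.swap
      have hval : ∀ ψ : IrrCharacter K, (ψ : K → ℂ) (ρ z5) = (ψ : K → ℂ) ((ρ z5) ^ 2) := by
        intro ψ
        have h4 : (twi h ψ h.mem : K → ℂ) (ρ z5) = (ψ : K → ℂ) (ρ z5) := by rw [hallfix]
        rw [← h4]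
        show tw (ψ : K → ℂ) n0 (ρ z5) = _
        rw [tw_apply h.hK _ h.mem]
        have h5 : (⟨n0 * (ρ z5 : K) * n0⁻¹, conj_mem h.hK h.mem (ρ z5).2⟩ : K) = k * (ρ z5) ^ 2 * k⁻¹ := Subtype.ext hk
        rw [h5]
        exact isIrr_isClassFunction ψ.2 _ _
      have := Fintype.ofFinite K
      have := finite_irr (G := K)
      have := Fintype.ofFinite (IrrCharacter K)
      have h6 := Cfsg.Agent.S0145.sum_irr_mul_conj (G := K) (ρ z5) ((ρ z5) ^ 2)
      have h7 := Cfsg.Agent.S0145.sum_irr_mul_conj (G := K) (ρ z5) (ρ z5)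
      rw [if_pos (IsConj.refl _)] at h7
      rw [Finset.sum_congr rfl (fun ψ _ => by rw [← hval ψ]), h7] at h6
      by_cases h8 : IsConj (ρ z5) ((ρ z5) ^ 2)
      · obtain ⟨g, hg⟩ := isConj_iff.1 h8
        obtain ⟨g', rfl⟩ := ρ.surjective g
        refine Tab.z5_not_conj g' (ρ.injective ?_)
        rw [map_mul, map_mul, map_inv, map_pow, hg]
      · rw [if_neg h8] at h6
        have : 0 < Nat.card (centralizer ({ρ z5} : Set K)) := Nat.card_pos
        exact this.ne' (by exact_mod_cast h6)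
    have hdegtwi : ∀ ψ : IrrCharacter K, (ψ : K → ℂ) 1 = 3 → (twi h ψ h.mem = B ∨ twi h ψ h.mem = C) :=
      fun ψ hψ => hthree _ (by rw [twi_one, hψ])
    have hBne : twi h B h.mem = C ∧ twi h C h.mem = B := by
      rcases hdegtwi B hB1 with e1 | e1 <;> rcases hdegtwi C hC1 with e2 | e2
      · exact absurd (twi_inj h h.mem (e1.trans e2.symm)) hBC
      · exact absurd ⟨e1, e2⟩ hswap
      · exact ⟨e1, e2⟩
      · exact absurd (twi_inj h h.mem (e1.trans e2.symm)) hBC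
    have horb : orb P K (θ : K → ℂ) = {B, C} := by
      have hθ : θ = B ∨ θ = C := h1.imp (fun h1 => pb_inj (h1.trans hB.symm)) fun h1 => pb_inj (h1.trans hC.symm)
      have hθ3 : (θ : K → ℂ) 1 = 3 := by rcases hθ with h | h <;> rw [h] <;> assumption
      ext θ'
      rw [Finset.mem_insert, Finset.mem_singleton]
      constructor
      · intro hθ'
        exact hthree θ' ((hdeg θ' hθ').trans hθ3)
      · intro hθ'
        have hmem2 : twi h θ h.mem ∈ orb P K (θ : K → ℂ) := mem_orb.2 ⟨n0, h.mem, rfl⟩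
        rcases hθ with rfl | rfl <;> rcases hθ' with rfl | rfl
        · exact hself
        · rwa [hBne.1] at hmem2
        · rwa [hBne.2] at hmem2
        · exact hself
    rw [horb]
    refine ⟨Finset.card_pair hBC, ?_, ?_, ?_⟩
    · rw [Finset.sum_pair hBC, hB1, hC1]; norm_num
    · rw [Finset.sum_pair hBC, ← pb_apply (θ := B), ← pb_apply (θ := C), hB, hC, hbt]
    · rw [Finset.sum_pair hBC, ← pb_apply (θ := B), ← pb_apply (θ := C), hB, hC, hbz]

/-! ### The values -/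

/-- the orbit sum -/
noncomputable def Th (P : Sylow 7 G) (K : Subgroup G) (θ : IrrCharacter K) (y : K) : ℂ :=
  ∑ θ' ∈ orb P K (θ : K → ℂ), (θ' : K → ℂ) y

theorem card_erase (h : Loc P K ρ n0) [Fintype (P : Subgroup G)] [DecidableEq (P : Subgroup G)] :
    ((Finset.univ : Finset (P : Subgroup G)).erase 1).card = 6 := by
  rw [Finset.card_erase_of_mem (Finset.mem_univ _), Finset.card_univ, ← Nat.card_eq_fintype_card]
  exact congrArg (· - 1) h.hP

/-- constant parts -/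
theorem T_const (h : Loc P K ρ n0) {θ : IrrCharacter K} {χ : IrrCharacter G} (hχ : χ ∈ Over P (θ : K → ℂ)) {c : ℂ}
    (hc : ∀ x : P, x ≠ 1 → part (θ : K → ℂ) (χ : G → ℂ) x = c) (y : K) :
    T (P : Subgroup G) (χ : G → ℂ) y = 6 * c * Th P K θ y := by
  classical
  have := Fintype.ofFinite (P : Subgroup G)
  rw [T_erase, Finset.sum_congr rfl (g := fun _ => c * Th P K θ y)]
  · rw [Finset.sum_const, card_erase h, nsmul_eq_mul]
    push_cast
    ring
  · intro x hx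
    exact apply_of_const h.hK h.hP θ.2 hχ hc (Finset.mem_erase.1 hx).1 y

/-- exceptional parts -/
theorem T_exc (h : Loc P K ρ n0) {θ : IrrCharacter K} {χ : IrrCharacter G} (hχ : χ ∈ Over P (θ : K → ℂ)) {d : ℤ} {e : ℕ}
    {S : Finset (P →* ℂˣ)} (hSc : S.card = e) (hS1 : 1 ∉ S)
    (hSv : ∀ x : P, x ≠ 1 → part (θ : K → ℂ) (χ : G → ℂ) x = d * ∑ l ∈ S, ((l x : ℂˣ) : ℂ)) (y : K) :
    T (P : Subgroup G) (χ : G → ℂ) y = -(d : ℂ) * e * Th P K θ y := by
  classical
  have := Fintype.ofFinite (P : Subgroup G)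
  have hpart : ∑ x ∈ (Finset.univ : Finset (P : Subgroup G)).erase 1, part (θ : K → ℂ) (χ : G → ℂ) x =
      -(d : ℂ) * e := by
    have h2 := SmallSimple.TheoremBCor.sum_exc_off (f := fun x : (P : Subgroup G) => part (θ : K → ℂ) (χ : G → ℂ) x)
      (d := (d : ℂ)) hS1 hSv
    rw [hSc] at h2
    rw [← Finset.add_sum_erase _ _ (Finset.mem_univ (1 : (P : Subgroup G)))] at h2
    linear_combination h2
  have horb : ∀ θ' ∈ orb P K (θ : K → ℂ),
      ∑ x ∈ (Finset.univ : Finset (P : Subgroup G)).erase 1, part (θ' : K → ℂ) (χ : G → ℂ) x = -(d : ℂ) * e := by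
    intro θ' hθ'
    obtain ⟨g, hg, hgθ⟩ := mem_orb.1 hθ'
    rw [← hpart, ← hgθ]
    have h3 : ∀ x : (P : Subgroup G), part (tw (θ : K → ℂ) g) (χ : G → ℂ) x =
        part (θ : K → ℂ) (χ : G → ℂ) (cP hg x : (P : Subgroup G)) := by
      intro x
      rw [← part_conj h.hK _ (isIrr_isClassFunction χ.2) hg, coe_cP]
    rw [Finset.sum_congr rfl fun x _ => h3 x]
    refine Finset.sum_bij (fun x _ => cP hg x) ?_ ?_ ?_ ?_
    · intro x hx
      rw [Finset.mem_erase] at hx ⊢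
      exact ⟨fun h1 => hx.1 ((MulEquiv.map_eq_one_iff (cP hg)).1 h1), Finset.mem_univ _⟩
    · intro x _ x' _ hxx
      exact (cP hg).injective hxx
    · intro x hx
      obtain ⟨x', rfl⟩ := (cP hg).surjective x
      refine ⟨x', ?_, rfl⟩
      rw [Finset.mem_erase] at hx ⊢
      exact ⟨fun h1 => hx.1 (by rw [h1, map_one]), Finset.mem_univ _⟩
    · intro x _
      rfl
  have hstep : ∑ x ∈ (Finset.univ : Finset (P : Subgroup G)).erase 1, (χ : G → ℂ) (x * y) =
      ∑ x ∈ (Finset.univ : Finset (P : Subgroup G)).erase 1, ∑ θ' ∈ orb P K (θ : K → ℂ),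
        part (θ' : K → ℂ) (χ : G → ℂ) x * (θ' : K → ℂ) y :=
    Finset.sum_congr rfl fun x hx => apply_mul_orb h.hK h.hP θ.2 hχ (Finset.mem_erase.1 hx).1 y
  rw [T_erase, hstep, Finset.sum_comm]
  unfold Th
  rw [Finset.mul_sum]
  refine Finset.sum_congr rfl fun θ' hθ' => ?_
  rw [← Finset.sum_mul, horb θ' hθ']

/-- the types -/
def tyList : List (ℤ × ℤ × ℤ) := [(0, 0, 0), (1, 1, 2), (-1, -1, -2), (4, 0, -2), (-4, 0, 2), (5, 1, 0), (-5, -1, 0),
  (6, -2, 2), (-6, 2, -2), (3, -1, 1), (-3, 1, -1)]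

/-- **The types of the irreducible characters.** -/
theorem types (h : Loc P K ρ n0) (χ : IrrCharacter G) : ∃ v b w : ℤ, (v, b, w) ∈ tyList ∧
    T (P : Subgroup G) (χ : G → ℂ) (1 : G) = 6 * v ∧ T (P : Subgroup G) (χ : G → ℂ) (ρ t2 : K) = 6 * b ∧
    T (P : Subgroup G) (χ : G → ℂ) (ρ z5 : K) = 3 * w ∧
    ((v = 3 ∨ v = -3) → ∃ (NE : Finset (IrrCharacter G)) (ε : IrrCharacter G → ℤ) (d : ℤ), NE.card = 3 ∧
      (∀ ψ ∈ NE, (ε ψ = 1 ∨ ε ψ = -1) ∧ T (P : Subgroup G) (ψ : G → ℂ) (1 : G) = 36 * ε ψ) ∧ v = -3 * d ∧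
      ∀ g : G, ¬ 7 ∣ orderOf g → ∑ ψ ∈ NE, (ε ψ : ℂ) * (ψ : G → ℂ) g = d * (χ : G → ℂ) g) := by
  classical
  have := Fintype.ofFinite (P : Subgroup G)
  by_cases hv : ∃ g : G, 7 ∣ orderOf g ∧ (χ : G → ℂ) g ≠ 0
  swap
  · push Not at hv
    have hz : ∀ y : K, T (P : Subgroup G) (χ : G → ℂ) y = 0 := by
      intro y
      rw [T_erase]
      apply Finset.sum_eq_zero
      intro x hx
      apply hv
      have hx1 : (x : G) ≠ 1 := fun e => (Finset.mem_erase.1 hx).1 (Subtype.ext e)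
      have hc : Commute (x : G) (y : G) := h.hK.comm x.2 y.2
      have ho := Blocks.CyclicOrtho.orderOf_eq P h.hP x.2 hx1
      have hcop : (orderOf (x : G)).Coprime (orderOf (y : G)) := by
        rw [ho]
        exact ((Fact.out : Nat.Prime 7).coprime_iff_not_dvd).2 ((h.hK y).1 y.2).2
      rw [hc.orderOf_mul_eq_mul_orderOf_of_coprime hcop, ho]
      exact dvd_mul_right _ _
    refine ⟨0, 0, 0, by decide, ?_, ?_, ?_, fun h0 => by omega⟩
    · rw [← Subgroup.coe_one K, hz]; simp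
    · rw [hz]; simp
    · rw [hz]; simp
  obtain ⟨θ, hθ⟩ := exists_mem_Over h.hK h.hP (χ := χ) hv
  have hcm := card_stabAct_mul_card_orb h.hK h.hP θ.2
  rw [h.idx] at hcm
  have hone : ((1 : K) : G) = 1 := rfl
  rcases orb_cases h θ with ⟨hm, hcases⟩ | ⟨hm, h1, h2, h3⟩
  · have he : Nat.card (stabAct h.hK (θ : K → ℂ)) = 6 := by rw [hm] at hcm; omega
    obtain ⟨NE, X, ε, d, S, hB, -, hNE, hX, hε, hd, hval, hvalX, -, -, -⟩ := theoremC h.hK h.hP θ.2 he (t := 1) (by norm_num)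
    have hs : ∃ s : ℤ, (s = 1 ∨ s = -1) ∧ ∀ y : K, T (P : Subgroup G) (χ : G → ℂ) y = 6 * s * Th P K θ y := by
      rcases (hB χ).1 hθ with hn | hn
      · exact ⟨ε χ, hε χ hn, fun y => T_const h hθ (hval χ hn) y⟩
      · obtain ⟨hSc, hS1, -, hSv⟩ := hvalX χ hn
        refine ⟨-d, by rcases hd with rfl | rfl <;> simp, fun y => ?_⟩
        rw [T_exc h hθ hSc hS1 hSv y]
        push_cast
        ring
    obtain ⟨s, hs1, hT⟩ := hs
    have hT1 := hT 1
    rw [hone] at hT1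
    rcases hcases with ⟨e1, e2, e3⟩ | ⟨e1, e2, e3⟩ | ⟨e1, e2, e3⟩
    · refine ⟨s, s, 2 * s, by rcases hs1 with rfl | rfl <;> decide, ?_, ?_, ?_, fun h0 => by omega⟩
      · rw [hT1, Th, e1]; ring
      · rw [hT, Th, e2]; ring
      · rw [hT, Th, e3]; push_cast; ring
    · refine ⟨4 * s, 0, -2 * s, by rcases hs1 with rfl | rfl <;> decide, ?_, ?_, ?_, fun h0 => by (clear * - h0; omega)⟩
      · rw [hT1, Th, e1]; push_cast; ring
      · rw [hT, Th, e2]; push_cast; ring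
      · rw [hT, Th, e3]; push_cast; ring
    · refine ⟨5 * s, s, 0, by rcases hs1 with rfl | rfl <;> decide, ?_, ?_, ?_, fun h0 => by (clear * - h0; omega)⟩
      · rw [hT1, Th, e1]; push_cast; ring
      · rw [hT, Th, e2]; ring
      · rw [hT, Th, e3]; push_cast; ring
  · have he : Nat.card (stabAct h.hK (θ : K → ℂ)) = 3 := by rw [hm] at hcm; omega
    obtain ⟨NE, X, ε, d, S, hB, -, hNE, hX, hε, hd, hval, hvalX, -, -, hrel⟩ := theoremC h.hK h.hP θ.2 he (t := 2) (by norm_num)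
    have hNET : ∀ ψ ∈ NE, ∀ y : K, T (P : Subgroup G) (ψ : G → ℂ) y = 6 * ε ψ * Th P K θ y := fun ψ hψ y =>
      T_const h ((hB ψ).2 (Or.inl hψ)) (hval ψ hψ) y
    rcases (hB χ).1 hθ with hn | hn
    · have hT := hNET χ hn
      have hT1 := hT 1
      rw [hone] at hT1
      refine ⟨6 * ε χ, -2 * ε χ, 2 * ε χ, by rcases hε χ hn with h5 | h5 <;> rw [h5] <;> decide, ?_, ?_, ?_, fun h0 => by
        rcases hε χ hn with h5 | h5 <;> rw [h5] at h0 <;> (clear * - h0; omega)⟩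
      · rw [hT1, Th, h1]; push_cast; ring
      · rw [hT, Th, h2]; push_cast; ring
      · rw [hT, Th, h3]; push_cast; ring
    · obtain ⟨hSc, hS1, -, hSv⟩ := hvalX χ hn
      have hT : ∀ y : K, T (P : Subgroup G) (χ : G → ℂ) y = -(d : ℂ) * 3 * Th P K θ y := fun y => by
        rw [T_exc h hθ hSc hS1 hSv y]
        norm_num
      have hT1 := hT 1
      rw [hone] at hT1
      refine ⟨-3 * d, d, -d, by rcases hd with h5 | h5 <;> rw [h5] <;> decide, ?_, ?_, ?_, fun _ =>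
        ⟨NE, ε, d, hNE, fun ψ hψ => ⟨hε ψ hψ, ?_⟩, rfl, fun g hg => hrel χ hn g hg⟩⟩
      · rw [hT1, Th, h1]; push_cast; ring
      · rw [hT, Th, h2]; push_cast; ring
      · rw [hT, Th, h3]; push_cast; ring
      · have := hNET ψ hψ 1
        rw [hone, Th, h1] at this
        rw [this]
        ring

end Cfsg.Agent.H456.LD.HN.Types
end

-- part: H456/LD/HN/Group
section
/-!
# The local data of the prime 7 in the Harada–Norton group (helper456)
-/

set_option autoImplicit false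
set_option maxRecDepth 100000

open scoped ComplexConjugate
open Cfsg Subgroup

namespace Cfsg.Agent.H456.LD.HN.Grp

open Cfsg.Agent.H173.RS (A12 c7 c7_comm e5 e5_injective orderOf_c7)
open Cfsg.Agent.H173.RS.HNRow
open Cfsg.Agent.SmallSimple.ThetaSetup Cfsg.Agent.SmallSimple.ThetaOrtho
open Cfsg.Agent.H456.LD.HN.Types (Loc)
open Cfsg.Agent.H456.LD.HN.Tab (A5 t2 z5)

local notation "Γ" => Cfsg.Spor.HN

instance fact7 : Fact (Nat.Prime 7) := ⟨by norm_num⟩

/-- the embedding of `A₅` -/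
noncomputable def w : A5 →* Γ := f.comp e5

theorem w_inj : Function.Injective w := f_inj.comp e5_injective

theorem w_eq (σ : A5) : (g0 σ : Γ) = w σ := rfl

/-- `K` -/
noncomputable def K : Subgroup Γ := w.range

/-- the isomorphism -/
noncomputable def ρ : A5 ≃* K := MonoidHom.ofInjective w_inj

theorem ρ_coe (σ : A5) : (ρ σ : Γ) = w σ := rfl

theorem fac7 : (Nat.card Γ).factorization 7 = 1 := by
  rw [card_HN, show (273030912000000 : ℕ) = 7 ^ 1 * 39004416000000 by norm_num, Nat.factorization_mul (by norm_num) (by norm_num),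
    Nat.Prime.factorization_pow (by norm_num : Nat.Prime 7), Finsupp.add_apply,
    Nat.factorization_eq_zero_of_not_dvd (show ¬ 7 ∣ 39004416000000 by norm_num), Finsupp.single_eq_same]

/-- the Sylow 7-subgroup -/
noncomputable def P : Sylow 7 Γ := Sylow.ofCard (zpowers u) (by rw [Nat.card_zpowers, orderOf_u, fac7, pow_one])

theorem P_eq : (P : Subgroup Γ) = zpowers u := rfl

theorem cent_P : centralizer ((P : Subgroup Γ) : Set Γ) = X := by
  rw [P_eq, SmallSimple.SelfCentPrime.centralizer_zpowers]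

theorem hP : Nat.card P = 7 := by
  show Nat.card (zpowers u) = 7
  rw [Nat.card_zpowers, orderOf_u]

theorem hK : IsComp 7 (P : Subgroup Γ) K := by
  intro y
  rw [cent_P]
  constructor
  · rintro ⟨σ, rfl⟩
    refine ⟨?_, ?_⟩
    · rw [← w_eq]; exact (g0 σ).2
    · rw [orderOf_injective w w_inj]
      intro h
      have h1 := h.trans (_root_.orderOf_dvd_natCard σ)
      rw [Tab.card_A5] at h1
      revert h1
      norm_num
  · rintro ⟨hy, h7⟩
    obtain ⟨σ, hσ⟩ := g_surj ((QuotientGroup.mk' U) ⟨y, hy⟩)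
    refine ⟨σ, ?_⟩
    have h1 : (g0 σ)⁻¹ * (⟨y, hy⟩ : X) ∈ U := by
      rw [← mk_eq_one, map_mul, map_inv]
      have h2 : (QuotientGroup.mk' U) (g0 σ) = (QuotientGroup.mk' U) ⟨y, hy⟩ := hσ
      rw [h2, inv_mul_cancel]
    set v := (g0 σ)⁻¹ * (⟨y, hy⟩ : X) with hv
    have h2 : (⟨y, hy⟩ : X) = g0 σ * v := by rw [hv, mul_inv_cancel_left]
    have h3 : Commute (g0 σ) v := U_comm _ h1
    have h7v := U_pow h1
    have h4 : v ^ (60 * orderOf y) = 1 := by
      have e1 : (⟨y, hy⟩ : X) ^ (60 * orderOf y) = 1 := by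
        apply Subtype.ext
        show y ^ (60 * orderOf y) = 1
        rw [mul_comm, pow_mul, pow_orderOf_eq_one, one_pow]
      have e2 : (g0 σ) ^ (60 * orderOf y) = 1 := by
        rw [pow_mul, ← map_pow, ← Tab.card_A5, pow_card_eq_one', map_one, one_pow]
      rw [h2, h3.mul_pow, e2, one_mul] at e1
      exact e1
    have h5 : orderOf v ∣ Nat.gcd 7 (60 * orderOf y) := Nat.dvd_gcd (orderOf_dvd_of_pow_eq_one h7v)
      (orderOf_dvd_of_pow_eq_one h4)
    have h6 : Nat.gcd 7 (60 * orderOf y) = 1 := by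
      refine (Nat.Coprime.mul_right (by norm_num) ?_ : Nat.Coprime 7 (60 * orderOf y))
      exact (Nat.Prime.coprime_iff_not_dvd (by norm_num)).2 h7
    rw [h6, Nat.dvd_one, orderOf_eq_one_iff] at h5
    rw [h5, mul_one] at h2
    exact (congrArg Subtype.val h2).symm

/-- the permutation `i ↦ 3 i` of seven points -/
def m3 : Equiv.Perm (Fin 7) := ⟨fun i => 3 * i, fun i => 5 * i, by decide, by decide⟩

/-- the permutation `i ↦ 2 i` of five points -/
def m2 : Equiv.Perm (Fin 5) := ⟨fun i => 2 * i, fun i => 3 * i, by decide, by decide⟩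

/-- the element of `A₁₂` -/
def gg : A12 := ⟨Equiv.Perm.sumCongr m3 m2, by
  rw [Equiv.Perm.mem_alternatingGroup, Equiv.Perm.sign_sumCongr]
  decide +kernel⟩

theorem gg_c7 : gg * c7 * gg⁻¹ = c7 ^ 3 := by
  apply Subtype.ext
  show Equiv.Perm.sumCongr m3 m2 * Equiv.Perm.sumCongr (finRotate 7) 1 * (Equiv.Perm.sumCongr m3 m2)⁻¹ =
    (Equiv.Perm.sumCongr (finRotate 7) 1) ^ 3
  decide +kernel

theorem gg_e5 : gg * e5 z5 * gg⁻¹ = (e5 z5) ^ 2 := by
  apply Subtype.ext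
  show Equiv.Perm.sumCongr m3 m2 * Equiv.Perm.sumCongr 1 (finRotate 5) * (Equiv.Perm.sumCongr m3 m2)⁻¹ =
    (Equiv.Perm.sumCongr 1 (finRotate 5)) ^ 2
  decide +kernel

/-- the element of `N(P)` -/
noncomputable def n0 : Γ := f gg

theorem n0_u : n0 * u * n0⁻¹ = u ^ 3 := by
  rw [n0, u, ← map_mul, ← map_inv, ← map_mul, gg_c7, map_pow]

theorem n0_mem : n0 ∈ normalizer ((P : Subgroup Γ) : Set Γ) := by
  rw [P_eq, mem_normalizer_iff_map_conj_eq, MonoidHom.map_zpowers]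
  have h1 : ((MulAut.conj n0 : MulAut Γ) : Γ →* Γ) u = u ^ 3 := n0_u
  rw [h1]
  apply Subgroup.eq_of_le_of_card_ge
  · rw [zpowers_le]
    exact pow_mem (mem_zpowers u) 3
  · rw [Nat.card_zpowers, Nat.card_zpowers, Nat.Coprime.orderOf_pow (by rw [orderOf_u]; norm_num)]

/-- conjugation by `n0` on the powers of `u` -/
theorem n0_pow (j : ℕ) : n0 * u ^ j * n0⁻¹ = u ^ (3 * j) := by
  rw [pow_mul, ← n0_u]
  exact (conj_pow).symm

theorem conj_u (j : ℕ) (hj : ¬ 7 ∣ j) : IsConj u (u ^ j) := by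
  have h7 : u ^ 7 = 1 := by rw [← orderOf_u, pow_orderOf_eq_one]
  have hstep : ∀ k : ℕ, IsConj (u ^ k) (u ^ (3 * k)) := fun k => isConj_iff.2 ⟨n0, n0_pow k⟩
  have h3 : IsConj u (u ^ 3) := by simpa only [_root_.isConj_iff, _root_.pow_one, _root_.mul_one] using hstep 1
  have h9 : IsConj u (u ^ 9) := h3.trans (hstep 3)
  have h27 : IsConj u (u ^ 27) := h9.trans (hstep 9)
  have h81 : IsConj u (u ^ 81) := h27.trans (hstep 27)
  have h243 : IsConj u (u ^ 243) := h81.trans (hstep 81)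
  have hmod : ∀ a b : ℕ, a % 7 = b % 7 → u ^ a = u ^ b := by
    intro a b h
    rw [pow_eq_pow_iff_modEq, orderOf_u]
    exact h
  have h1 : j % 7 = 1 ∨ j % 7 = 2 ∨ j % 7 = 3 ∨ j % 7 = 4 ∨ j % 7 = 5 ∨ j % 7 = 6 := by omega
  rcases h1 with h | h | h | h | h | h
  · rw [hmod j 1 h, pow_one]
  · rw [hmod j 9 h]; exact h9
  · rw [hmod j 3 h]; exact h3
  · rw [hmod j 81 h]; exact h81
  · rw [hmod j 243 h]; exact h243
  · rw [hmod j 27 h]; exact h27

theorem conj_P {x : Γ} (hx : x ∈ (P : Subgroup Γ)) (hx1 : x ≠ 1) : IsConj u x := by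
  rw [P_eq, ← mem_powers_iff_mem_zpowers] at hx
  obtain ⟨j, hj⟩ := hx
  have hj' : u ^ j = x := hj
  subst hj'
  apply conj_u
  rintro ⟨k, rfl⟩
  apply hx1
  rw [pow_mul, ← orderOf_u, pow_orderOf_eq_one, one_pow]

theorem u_memP : u ∈ (P : Subgroup Γ) := by
  rw [P_eq]
  exact mem_zpowers u

/-- the action of `n0` on `P` -/
noncomputable def r0 : MulAut (P : Subgroup Γ) := cP n0_mem

theorem r0_pow (k : ℕ) : (((r0 ^ k) ⟨u, u_memP⟩ : (P : Subgroup Γ)) : Γ) = u ^ (3 ^ k) := by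
  induction k with
  | zero => simp
  | succ k ih =>
    rw [pow_succ', MulAut.mul_apply]
    show n0 * (((r0 ^ k) ⟨u, u_memP⟩ : (P : Subgroup Γ)) : Γ) * n0⁻¹ = _
    rw [ih, n0_pow, pow_succ']

theorem orderOf_r0 : orderOf r0 = 6 := by
  have hcyc : IsCyclic (P : Subgroup Γ) := isCyclic_of_prime_card (p := 7) hP
  have h1 : Nat.card (MulAut (P : Subgroup Γ)) = 6 := by
    rw [IsCyclic.card_mulAut]
    have : Nat.card (P : Subgroup Γ) = 7 := hP
    rw [this]
    decide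
  have h2 : orderOf r0 ∣ 6 := by
    rw [← h1]
    exact _root_.orderOf_dvd_natCard _
  have key : ∀ k : ℕ, r0 ^ k = 1 → 3 ^ k % 7 = 1 := by
    intro k hk
    have h3 := r0_pow k
    rw [hk] at h3
    have h4 : u ^ 1 = u ^ (3 ^ k) := by rw [pow_one]; exact h3
    rw [pow_eq_pow_iff_modEq, orderOf_u] at h4
    exact (show 1 % 7 = 3 ^ k % 7 from h4).symm
  have h3 : ¬ orderOf r0 ∣ 2 := fun h => absurd (key 2 (orderOf_dvd_iff_pow_eq_one.1 h)) (by norm_num)
  have h4 : ¬ orderOf r0 ∣ 3 := fun h => absurd (key 3 (orderOf_dvd_iff_pow_eq_one.1 h)) (by norm_num)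
  have h5 : orderOf r0 ≤ 6 := Nat.le_of_dvd (by norm_num) h2
  have h6 : 0 < orderOf r0 := Nat.pos_of_dvd_of_pos h2 (by norm_num)
  interval_cases h : orderOf r0 <;> omega

theorem idx : (centralizer ((P : Subgroup Γ) : Set Γ)).relIndex (normalizer ((P : Subgroup Γ) : Set Γ)) = 6 := by
  have h1 := Cfsg.Agent.SmallSimple.TheoremCCor.card_stabAct_of_stable hK hP
    (Cfsg.Agent.Characters.Core.isIrr_one (G := K)) (fun n hn => Cfsg.Agent.SmallSimple.TheoremCCor.tw_one_char hK hn)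
  rw [← h1]
  have hcyc : IsCyclic (P : Subgroup Γ) := isCyclic_of_prime_card (p := 7) hP
  have h2 : Nat.card (MulAut (P : Subgroup Γ)) = 6 := by
    rw [IsCyclic.card_mulAut]
    have : Nat.card (P : Subgroup Γ) = 7 := hP
    rw [this]
    decide
  have hmem : r0 ∈ stabAct hK (1 : K → ℂ) :=
    ⟨n0, n0_mem, fun x => rfl, Cfsg.Agent.SmallSimple.TheoremCCor.tw_one_char hK n0_mem⟩
  apply Nat.dvd_antisymm
  · rw [← h2]
    exact Subgroup.card_subgroup_dvd_card _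
  · rw [← orderOf_r0]
    exact Subgroup.orderOf_dvd_natCard _ hmem

theorem swap : ∃ k : K, n0 * (ρ z5 : K) * n0⁻¹ = ((k * (ρ z5) ^ 2 * k⁻¹ : K) : Γ) := by
  refine ⟨1, ?_⟩
  rw [one_mul, inv_one, mul_one, Subgroup.coe_pow, ρ_coe]
  show f gg * f (e5 z5) * (f gg)⁻¹ = (f (e5 z5)) ^ 2
  rw [← map_inv, ← map_mul, ← map_mul, gg_e5, map_pow]

theorem loc : Loc P K ρ n0 := ⟨hK, hP, idx, n0_mem, swap⟩

/-! ### the involution -/

/-- the involution -/
noncomputable def t : Γ := w t2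

theorem orderOf_t : orderOf t = 2 := by rw [t, orderOf_injective w w_inj, Tab.orderOf_t2]

theorem t_sq : t ^ 2 = 1 := by rw [← orderOf_t, pow_orderOf_eq_one]

theorem t_ne : t ≠ 1 := by
  intro h
  have := orderOf_t
  rw [h, orderOf_one] at this
  omega

theorem comm_ut : Commute u t := (mem_centralizer_singleton_iff.1 (g0 t2).2).symm

theorem card_cent_t : Nat.card (centralizer ({t} : Set Γ)) = 177408000 := by
  have h7 : 7 ∣ Nat.card (centralizer ({t} : Set Γ)) := by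
    have h1 : u ∈ centralizer ({t} : Set Γ) := mem_centralizer_singleton_iff.2 comm_ut.eq
    rw [← orderOf_u, ← Subgroup.orderOf_mk u h1]
    exact _root_.orderOf_dvd_natCard _
  rcases Cfsg.Agent.SigZeroHN.card_centralizer_cases orderOf_t with ⟨-, h⟩ | ⟨-, h⟩
  · exact h
  · rw [h] at h7
    exact absurd h7 (by norm_num)

theorem index_t : (centralizer ({t} : Set Γ)).index = 1539000 := by
  have h := (centralizer ({t} : Set Γ)).card_mul_index
  rw [card_cent_t, card_HN] at h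
  omega

theorem index_u : (centralizer ({u} : Set Γ)).index = 650073600000 := by
  have h := (centralizer ({u} : Set Γ)).card_mul_index
  rw [show Nat.card (centralizer ({u} : Set Γ)) = 420 from card_X, card_HN] at h
  omega

/-- the element of order 5 -/
noncomputable def z : Γ := w z5

theorem orderOf_z : orderOf z = 5 := by rw [z, orderOf_injective w w_inj, Tab.orderOf_z5]

theorem comm_P {x : Γ} (hx : x ∈ (P : Subgroup Γ)) (σ : A5) : Commute x (w σ) := by
  rw [P_eq] at hx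
  obtain ⟨m, rfl⟩ := hx
  exact (show Commute u (w σ) from (mem_centralizer_singleton_iff.1 (g0 σ).2).symm).zpow_left m

theorem orderOf_P {x : Γ} (hx : x ∈ (P : Subgroup Γ)) (hx1 : x ≠ 1) : orderOf x = 7 :=
  Blocks.CyclicOrtho.orderOf_eq P hP hx hx1

theorem orderOf_xz {x : Γ} (hx : x ∈ (P : Subgroup Γ)) (hx1 : x ≠ 1) : orderOf (x * z) = 35 := by
  show orderOf (x * w z5) = 35
  have h5 : orderOf (w z5) = 5 := orderOf_z
  rw [(comm_P hx z5).orderOf_mul_eq_mul_orderOf_of_coprime (by rw [orderOf_P hx hx1, h5]; norm_num), orderOf_P hx hx1, h5]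

/-! ### the residues of the degrees modulo 11 -/

instance simple : IsSimpleGroup Γ := Cfsg.Agent.S1701.result.1

theorem notComm : ¬ IsMulCommutative Γ := by
  intro h
  exact Cfsg.Agent.H315.PwHN.notComm fun a b => h.is_comm.comm a b

open Cfsg.Agent.H653.Sieve in
theorem mod_eleven [Fintype (IrrCharacter Γ)] (χ : IrrCharacter Γ) :
    charDegree (χ : Γ → ℂ) % 11 = 0 ∨ charDegree (χ : Γ → ℂ) % 11 = 1 ∨ charDegree (χ : Γ → ℂ) % 11 = 10 := by
  have : Fact (Nat.Prime 11) := ⟨by norm_num⟩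
  obtain ⟨y, hy⟩ := Cfsg.Agent.H315.PwHN.exists11
  obtain ⟨Q, W, -, -, -, hcol⟩ := exists_col notComm (N := 273030912000000) card_HN hy (k := 2)
    (Cfsg.Agent.H315.PwHN.card_eleven hy) 10 1 [(0, 0), (1, 1), (10, -1)] 0 false (by decide +kernel)
  have h := hcol.1 χ
  simp only [List.mem_cons, Prod.mk.injEq, List.not_mem_nil, or_false] at h
  rcases h with h | h | h
  · exact Or.inl h.1
  · exact Or.inr (Or.inl h.1)
  · exact Or.inr (Or.inr h.1)

end Cfsg.Agent.H456.LD.HN.Grp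
end

-- part: H456/LD/HN/Enum
section
/-!
# The enumeration of the block (helper456)
-/

set_option autoImplicit false
set_option maxRecDepth 100000

namespace Cfsg.Agent.H456.LD.HN.Enum

/-- the degrees divided by 3125, with the values at `x₇ t` and the weight of the column of `x₇ z` -/
def cl : List (ℤ × ℤ × ℤ) := [(1, 0, 2), (132, 1, -1), (209, 0, -2), (264, 2, -2), (342, 1, -1), (891, -2, 2),
  (1024, -1, -2), (1408, -1, 1), (1539, 0, -2), (1672, 1, -1), (1881, 1, 2), (3344, 2, -2), (4104, -1, -2), (4752, 1, -1)]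

/-- the conditions for the value at the involution -/
def okA (n b : ℤ) (c : ℕ) (a : ℤ) : Bool :=
  (3125 * n - a) % 4 == 0 && (a - b) % 7 == 0 && ((1539000 * a / (3125 * n)) - c) % 5 == 0 && decide (|a| < 3125 * n)

/-- the step -/
def gg (n : ℤ) : ℤ := 3125 * n / (Int.gcd (3125 * n) 1539000 : ℕ)

/-- the number of steps -/
def mm (n : ℤ) : ℕ := 13320 / (gg n).toNat

/-- the possible values at the involution -/
def As (n b : ℤ) (c : ℕ) : List ℤ :=
  ((List.range (2 * mm n + 1)).map fun i : ℕ => gg n * ((i : ℤ) - mm n)).filter (okA n b c)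

/-- the choice of the values -/
def chkA (c : ℕ) : List (ℤ × ℤ × ℤ) → ℤ → ℤ → ℕ → ℕ → ℕ → Bool
  | [], s2, s3, c1, c2, c3 => !(s2 == 0 && decide (s3 ≤ 177408000)) || (c1 == 1 || (c2 == 2 && c3 == 1))
  | r :: l, s2, s3, c1, c2, c3 => (As r.1 r.2.1 c).all fun a =>
      chkA c l (s2 + a * r.2.2) (s3 + a ^ 2) (c1 + if r.1 = 1024 then 1 else 0)
        (c2 + if r.1 = 1672 ∧ a = -6600 then 1 else 0) (c3 + if r.1 = 1881 ∧ a = -4675 then 1 else 0)

/-- all the choices of the values -/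
def good (l : List (ℤ × ℤ × ℤ)) : Bool :=
  (List.range 5).all fun c => (As 209 0 c).all fun a0 => chkA c l (a0 * (-2)) (a0 ^ 2) 0 0 0

/-- the choice of the degrees -/
def chkN : ℕ → ℤ → List (ℤ × ℤ × ℤ) → Bool
  | 0, s, l => s != 0 || good l
  | k + 1, s, l => (s != 0 || good l) && cl.all fun r => chkN k (s + r.1 * r.2.2) (r :: l)

theorem chkN_head {k : ℕ} {s : ℤ} {l : List (ℤ × ℤ × ℤ)} (h : chkN k s l = true) : (s != 0 || good l) = true := by
  cases k with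
  | zero => exact h
  | succ k =>
    rw [chkN, Bool.and_eq_true] at h
    exact h.1

theorem chkN_sound : ∀ (l' : List (ℤ × ℤ × ℤ)) (k : ℕ) (s : ℤ) (l : List (ℤ × ℤ × ℤ)), chkN k s l = true → l'.length ≤ k →
    (∀ r ∈ l', r ∈ cl) → s + (l'.map fun r => r.1 * r.2.2).sum = 0 → good (l'.reverse ++ l) = true := by
  intro l'
  induction l' with
  | nil =>
    intro k s l h _ _ hs
    have h1 := chkN_head h
    simp only [List.map_nil, List.sum_nil, add_zero] at hs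
    rw [hs] at h1
    simpa using h1
  | cons r l' ih =>
    intro k s l h hk hm hs
    cases k with
    | zero => simp at hk
    | succ k =>
      rw [chkN, Bool.and_eq_true] at h
      have h1 := List.all_eq_true.1 h.2 r (hm r List.mem_cons_self)
      rw [List.reverse_cons, List.append_assoc]
      refine ih k _ (r :: l) h1 (by simpa using hk) (fun x hx => hm x (List.mem_cons_of_mem _ hx)) ?_
      rw [List.map_cons, List.sum_cons] at hs
      linarith only [hs]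

theorem chkA_sound (c : ℕ) : ∀ (L : List ((ℤ × ℤ × ℤ) × ℤ)) (s2 s3 : ℤ) (c1 c2 c3 : ℕ),
    chkA c (L.map Prod.fst) s2 s3 c1 c2 c3 = true → (∀ r ∈ L, r.2 ∈ As r.1.1 r.1.2.1 c) →
    s2 + (L.map fun r => r.2 * r.1.2.2).sum = 0 → s3 + (L.map fun r => r.2 ^ 2).sum ≤ 177408000 →
    (c1 + L.countP (fun r => decide (r.1.1 = 1024)) = 1) ∨
      (c2 + L.countP (fun r => decide (r.1.1 = 1672 ∧ r.2 = -6600)) = 2 ∧
        c3 + L.countP (fun r => decide (r.1.1 = 1881 ∧ r.2 = -4675)) = 1) := by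
  intro L
  induction L with
  | nil =>
    intro s2 s3 c1 c2 c3 h _ h2 h3
    simp only [List.map_nil, List.sum_nil, add_zero] at h2 h3
    rw [List.map_nil, chkA] at h
    simp only [List.countP_nil, add_zero]
    rw [h2] at h
    simp only [beq_self_eq_true, Bool.true_and, Bool.or_eq_true, Bool.not_eq_true', decide_eq_false_iff_not, not_le,
      beq_iff_eq, Bool.and_eq_true] at h
    rcases h with h | h | h
    · omega
    · exact Or.inl h
    · exact Or.inr h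
  | cons r L ih =>
    intro s2 s3 c1 c2 c3 h hm h2 h3
    rw [List.map_cons, chkA] at h
    have h1 := List.all_eq_true.1 h r.2 (hm r List.mem_cons_self)
    rw [List.map_cons, List.sum_cons] at h2 h3
    have h4 := ih _ _ _ _ _ h1 (fun x hx => hm x (List.mem_cons_of_mem _ hx)) (by linarith) (by linarith)
    rw [List.countP_cons, List.countP_cons, List.countP_cons]
    simp only [decide_eq_true_eq]
    split_ifs at h4 ⊢ <;> omega

private def off (r : ℤ × ℤ × ℤ) : ℕ := (r.1 * r.2.2 + 8208).toNat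

private theorem off_eq : ∀ r ∈ cl, r.1 * r.2.2 = off r - 8208 := by decide +kernel

private noncomputable def chkF (M k : ℕ) : ℕ → ℕ → List (ℤ × ℤ × ℤ) → Bool :=
  @Nat.rec (fun _ => ℕ → ℕ → List (ℤ × ℤ × ℤ) → Bool) (fun t z l => (!(Nat.beq t z) || good l) &&
      @Nat.rec (fun _ => Bool) true (fun _ _ => cl.all fun r => !(Nat.beq (t + off r) (z + 8208)) || good (r :: l))
        (Nat.mod (Nat.shiftRight M (Nat.mod (Nat.sub (Nat.add z 8208) t) 12007)) 2))
    (fun _ ih t z l => (!(Nat.beq t z) || good l) && cl.all fun r => SieveFast.fN (t + off r) fun u => ih u (z + 8208) (r :: l)) k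

private theorem hd_of {t z : ℕ} {s : ℤ} {b : Bool} (hs : s = t - z) (h : (!(Nat.beq t z) || b) = true) :
    (s != 0 || b) = true := by
  rw [Bool.or_eq_true, Bool.not_eq_true', Bool.eq_false_iff, Ne, Nat.beq_eq] at h
  rw [Bool.or_eq_true, bne_iff_ne]
  exact h.imp (fun h => by omega) id

private theorem chkF_spec (k : ℕ) : ∀ (t z : ℕ) (s : ℤ) (l : List (ℤ × ℤ × ℤ)), s = t - z →
    chkF (SieveFast.mk 12007 (cl.map off)) k t z l = true → chkN (k + 1) s l = true := by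
  induction k with
  | zero =>
    intro t z s l hs h
    obtain ⟨h1, h2⟩ := Bool.and_eq_true_iff.1 h
    refine Bool.and_eq_true_iff.2 ⟨hd_of hs h1, List.all_eq_true.2 fun r hr => hd_of (t := t + off r) (z := z + 8208)
      (by rw [hs, off_eq r hr]; push_cast; ring) ?_⟩
    cases h3 : Nat.beq (t + off r) (z + 8208)
    · rfl
    · have h4 : Nat.sub (Nat.add z 8208) t = off r := by
        have := Nat.eq_of_beq_eq_true h3
        show z + 8208 - t = off r
        omega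
      rw [h4, show Nat.mod (Nat.shiftRight _ (Nat.mod (off r) 12007)) 2 = 1 from
        SieveFast.mk_spec (List.mem_map_of_mem hr)] at h2
      exact h3 ▸ List.all_eq_true.1 h2 r hr
  | succ k ih =>
    intro t z s l hs h
    obtain ⟨h1, h2⟩ := Bool.and_eq_true_iff.1 h
    exact Bool.and_eq_true_iff.2 ⟨hd_of hs h1, List.all_eq_true.2 fun r hr => ih (t + off r) (z + 8208) _ _
      (by rw [hs, off_eq r hr]; push_cast; ring) ((SieveFast.fN_eq _ _).symm.trans (List.all_eq_true.1 h2 r hr))⟩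

private noncomputable def _root_.Cfsg.Agent.LsF.f0002a7_0 : {f // @Cfsg.Agent.H456.LD.HN.Enum.off = f} := ⟨_, by first | (delta Cfsg.Agent.H456.LD.HN.Enum.off; rewrite [Cfsg.Agent.LsF.iadd_pat, Cfsg.Agent.LsF.imul_pat, Cfsg.Agent.LsF.toNat_eq]; exact rfl) | exact rfl⟩
private noncomputable def _root_.Cfsg.Agent.LsF.f0002a7_1 : {f // @Cfsg.Agent.H456.LD.HN.Enum.okA = f} := ⟨_, by first | (delta Cfsg.Agent.H456.LD.HN.Enum.okA; rewrite [Cfsg.Agent.LsF.imul_pat, Cfsg.Agent.LsF.isub_pat, Cfsg.Agent.LsF.imod_pat, Cfsg.Agent.LsF.icast_pat, Cfsg.Agent.LsF.ibeq_pat, Cfsg.Agent.LsF.and_eq, Cfsg.Agent.LsF.idecLt_eq, Cfsg.Agent.LsF.decide_eq]; exact rfl) | exact rfl⟩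
private noncomputable def _root_.Cfsg.Agent.LsF.f0002a7_2 : {f // @Cfsg.Agent.H456.LD.HN.Enum.gg = f} := ⟨_, by first | (delta Cfsg.Agent.H456.LD.HN.Enum.gg; rewrite [Cfsg.Agent.LsF.imul_pat, Cfsg.Agent.LsF.icast_pat]; exact rfl) | exact rfl⟩
private noncomputable def _root_.Cfsg.Agent.LsF.f0002a7_3 : {f // @Cfsg.Agent.H456.LD.HN.Enum.mm = f} := ⟨_, by first | (delta Cfsg.Agent.H456.LD.HN.Enum.mm; rewrite [Cfsg.Agent.LsF.f0002a7_2.2, Cfsg.Agent.LsF.ndiv_pat, Cfsg.Agent.LsF.toNat_eq]; exact rfl) | exact rfl⟩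
private noncomputable def _root_.Cfsg.Agent.LsF.f0002a7_4 : {f // @Cfsg.Agent.H456.LD.HN.Enum.As = f} := ⟨_, by first | (delta Cfsg.Agent.H456.LD.HN.Enum.As; rewrite [Cfsg.Agent.LsF.f0002a7_1.2, Cfsg.Agent.LsF.f0002a7_2.2, Cfsg.Agent.LsF.f0002a7_3.2, Cfsg.Agent.LsF.nadd_pat, Cfsg.Agent.LsF.nmul_pat, Cfsg.Agent.LsF.imul_pat, Cfsg.Agent.LsF.isub_pat, Cfsg.Agent.LsF.icast_pat, Cfsg.Agent.LsF.map_eq, Cfsg.Agent.LsF.filter_eq, Cfsg.Agent.LsF.range_eq]; exact rfl) | exact rfl⟩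
private noncomputable def _root_.Cfsg.Agent.LsF.f0002a7_5 : {f // @Cfsg.Agent.H456.LD.HN.Enum.chkA = f} := ⟨_, by first | (delta Cfsg.Agent.H456.LD.HN.Enum.chkA List.brecOn List.brecOn.go Cfsg.Agent.H456.LD.HN.Enum.chkA._f; rewrite [Cfsg.Agent.LsF.f0002a7_4.2, Cfsg.Agent.LsF.nadd_pat, Cfsg.Agent.LsF.nbeq_pat, Cfsg.Agent.LsF.iadd_pat, Cfsg.Agent.LsF.imul_pat, Cfsg.Agent.LsF.ineg_pat, Cfsg.Agent.LsF.ibeq_pat, Cfsg.Agent.LsF.and_eq, Cfsg.Agent.LsF.or_eq, Cfsg.Agent.LsF.not_eq, Cfsg.Agent.LsF.all_eq, Cfsg.Agent.LsF.instIDecEq_eq, Cfsg.Agent.LsF.idecLe_eq, Cfsg.Agent.LsF.dAnd_eq, Cfsg.Agent.LsF.ite_eq, Cfsg.Agent.LsF.decide_eq]; (try delta Cfsg.Agent.H456.LD.HN.Enum.chkA.match_1); (try delta List.casesOn); first | dsimp -zeta only | exact rfl) | exact rfl⟩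
private noncomputable def _root_.Cfsg.Agent.LsF.f0002a7_6 : {f // @Cfsg.Agent.H456.LD.HN.Enum.good = f} := ⟨_, by first | (delta Cfsg.Agent.H456.LD.HN.Enum.good; rewrite [Cfsg.Agent.LsF.f0002a7_4.2, Cfsg.Agent.LsF.f0002a7_5.2, Cfsg.Agent.LsF.imul_pat, Cfsg.Agent.LsF.ineg_pat, Cfsg.Agent.LsF.all_eq, Cfsg.Agent.LsF.range_eq]; exact rfl) | exact rfl⟩
private noncomputable def _root_.Cfsg.Agent.LsF.f0002a7_7 : {f // @Cfsg.Agent.H456.LD.HN.Enum.chkF = f} := ⟨_, by first | (delta Cfsg.Agent.H456.LD.HN.Enum.chkF; rewrite [Cfsg.Agent.LsF.f0002a7_6.2, Cfsg.Agent.LsF.f0002a7_0.2, Cfsg.Agent.LsF.nadd_pat, Cfsg.Agent.LsF.and_eq, Cfsg.Agent.LsF.or_eq, Cfsg.Agent.LsF.not_eq, Cfsg.Agent.LsF.all_eq]; exact rfl) | exact rfl⟩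
theorem chkN_all : chkN 4 (209 * (-2)) [] = true :=
  chkF_spec 3 0 418 _ _ rfl ((SieveFast.fN_eq _ fun M => chkF M 3 0 418 []).symm.trans (by ((try (rewrite [Cfsg.Agent.LsF.f0002a7_0.2, Cfsg.Agent.LsF.f0002a7_7.2, Cfsg.Agent.LsF.map_eq])); decide +kernel)))

/-- **The enumeration.** -/
theorem enum (c : ℕ) (hc : c < 5) {a0 : ℤ} (h0 : a0 ∈ As 209 0 c) (L : List ((ℤ × ℤ × ℤ) × ℤ)) (hlen : L.length ≤ 4)
    (hmem : ∀ r ∈ L, r.1 ∈ cl ∧ r.2 ∈ As r.1.1 r.1.2.1 c)
    (h1 : 209 * (-2) + (L.map fun r => r.1.1 * r.1.2.2).sum = 0)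
    (h2 : a0 * (-2) + (L.map fun r => r.2 * r.1.2.2).sum = 0)
    (h3 : a0 ^ 2 + (L.map fun r => r.2 ^ 2).sum ≤ 177408000) :
    L.countP (fun r => decide (r.1.1 = 1024)) = 1 ∨
      (L.countP (fun r => decide (r.1.1 = 1672 ∧ r.2 = -6600)) = 2 ∧
        L.countP (fun r => decide (r.1.1 = 1881 ∧ r.2 = -4675)) = 1) := by
  have hg := chkN_sound (L.map Prod.fst) 4 _ [] chkN_all (by simpa using hlen) (fun r hr => by
    obtain ⟨x, hx, rfl⟩ := List.mem_map.1 hr
    exact (hmem x hx).1) (by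
    rw [List.map_map]
    exact h1)
  rw [List.append_nil, ← List.map_reverse] at hg
  have h4 := List.all_eq_true.1 hg c (List.mem_range.2 hc)
  have h5 := List.all_eq_true.1 h4 a0 h0
  have h6 := chkA_sound c L.reverse _ _ _ _ _ h5 (fun r hr => (hmem r (List.mem_reverse.1 hr)).2)
    (by rw [List.map_reverse, List.sum_reverse]; exact h2) (by rw [List.map_reverse, List.sum_reverse]; exact h3)
  simpa only [List.countP_reverse, zero_add] using h6

end Cfsg.Agent.H456.LD.HN.Enum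
end

-- part: H456/LD/HN/EnumB
section
/-!
# The candidates (helper456)
-/

set_option autoImplicit false
set_option maxRecDepth 100000

namespace Cfsg.Agent.H456.LD.HN.Enum

/-- the types prime to 5 -/
def tyl : List (ℤ × ℤ × ℤ) := [(1, 1, 2), (-1, -1, -2), (4, 0, -2), (-4, 0, 2), (6, -2, 2), (-6, 2, -2), (3, -1, 1), (-3, 1, -1)]

/-- the check of the candidates -/
def candOK (n : ℕ) : Bool :=
  n == 0 || 87369891840 % n != 0 || !((3125 * n) % 11 == 0 || (3125 * n) % 11 == 1 || (3125 * n) % 11 == 10) ||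
    !((3125 * n) % 19 == 0 || (3125 * n) % 19 == 1 || (3125 * n) % 19 == 18 || (3125 * n) % 19 == 9 || (3125 * n) % 19 == 10) ||
    tyl.all fun r => ((n : ℤ) - r.1) % 5 != 0 || (3125 * (n : ℤ) - r.1) % 7 != 0 || cl.contains ((n : ℤ), r.2.1, r.2.2)

private noncomputable def _root_.Cfsg.Agent.LsF.f0002a7_8 : {f // @Cfsg.Agent.H456.LD.HN.Enum.candOK = f} := ⟨_, by first | (delta Cfsg.Agent.H456.LD.HN.Enum.candOK; rewrite [Cfsg.Agent.LsF.nmul_pat, Cfsg.Agent.LsF.nmod_pat, Cfsg.Agent.LsF.nbeq_pat, Cfsg.Agent.LsF.nbne_pat, Cfsg.Agent.LsF.imul_pat, Cfsg.Agent.LsF.isub_pat, Cfsg.Agent.LsF.imod_pat, Cfsg.Agent.LsF.icast_pat, Cfsg.Agent.LsF.instIBEq_pat, Cfsg.Agent.LsF.or_eq, Cfsg.Agent.LsF.not_eq, Cfsg.Agent.LsF.all_eq, Cfsg.Agent.LsF.contains_eq, Cfsg.Agent.LsF.bne_eq, Cfsg.Agent.LsF.instPBEq_eq]; exact rfl) | exact rfl⟩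
theorem candAll : ((List.range 5288).all candOK) = true := by ((try (rewrite [Cfsg.Agent.LsF.f0002a7_8.2, Cfsg.Agent.LsF.all_eq, Cfsg.Agent.LsF.range_eq])); decide +kernel)

theorem mem_cl {n : ℕ} (hn0 : 0 < n) (hn : n < 5288) (hdvd : n ∣ 87369891840)
    (h11 : (3125 * n) % 11 = 0 ∨ (3125 * n) % 11 = 1 ∨ (3125 * n) % 11 = 10)
    (h19 : (3125 * n) % 19 = 0 ∨ (3125 * n) % 19 = 1 ∨ (3125 * n) % 19 = 18 ∨ (3125 * n) % 19 = 9 ∨ (3125 * n) % 19 = 10)
    {v b w : ℤ} (hty : (v, b, w) ∈ tyl) (h5 : (5 : ℤ) ∣ n - v) (h7 : (7 : ℤ) ∣ 3125 * n - v) : ((n : ℤ), b, w) ∈ cl := by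
  have h := List.all_eq_true.1 candAll n (List.mem_range.2 hn)
  rw [candOK] at h
  simp only [Bool.or_eq_true, beq_iff_eq, bne_iff_ne, ne_eq, Bool.not_eq_true', Bool.or_eq_false_iff, List.all_eq_true,
    List.contains_iff_mem] at h
  rcases h with (((h | h) | h) | h) | h
  · (clear * - hn0 h; omega)
  · exact absurd (Nat.mod_eq_zero_of_dvd hdvd) h
  · exfalso
    obtain ⟨⟨e1, e2⟩, e3⟩ := h
    rcases h11 with h | h | h <;> simp [h] at e1 e2 e3
  · exfalso
    obtain ⟨⟨⟨⟨e1, e2⟩, e3⟩, e4⟩, e5⟩ := h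
    rcases h19 with h | h | h | h | h <;> simp [h] at e1 e2 e3 e4 e5
  · rcases h _ hty with (h | h) | h
    · exact absurd (Int.emod_eq_zero_of_dvd h5) h
    · exact absurd (Int.emod_eq_zero_of_dvd h7) h
    · exact h

theorem dvd_of {D k a : ℤ} (hD : D ≠ 0) (h : D ∣ k * a) : D / (Int.gcd D k : ℕ) ∣ a := by
  have hg : 0 < Int.gcd D k := Int.gcd_pos_of_ne_zero_left _ hD
  have hg' : ((Int.gcd D k : ℕ) : ℤ) ≠ 0 := by exact_mod_cast hg.ne'
  obtain ⟨D', hD'⟩ := Int.gcd_dvd_left (a := D) (b := k)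
  obtain ⟨k', hk'⟩ := Int.gcd_dvd_right (a := D) (b := k)
  have h1 : D / (Int.gcd D k : ℕ) = D' := by
    conv_lhs => rw [hD']
    rw [show ((Int.gcd ((Int.gcd D k : ℕ) * D') k : ℕ) : ℤ) = (Int.gcd D k : ℕ) by rw [← hD']]
    exact Int.mul_ediv_cancel_left _ hg'
  rw [h1]
  have hcop : IsCoprime D' k' := by
    rw [Int.isCoprime_iff_gcd_eq_one]
    have h2 := Int.gcd_div_gcd_div_gcd (i := D) (j := k) hg
    rwa [h1, show k / (Int.gcd D k : ℕ) = k' by
      conv_lhs => rw [hk']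
      rw [show ((Int.gcd D ((Int.gcd D k : ℕ) * k') : ℕ) : ℤ) = (Int.gcd D k : ℕ) by rw [← hk']]
      exact Int.mul_ediv_cancel_left _ hg'] at h2
  have h3 : D' ∣ k' * a := by
    obtain ⟨m, hm⟩ := h
    refine ⟨m, ?_⟩
    have h4 : ((Int.gcd D k : ℕ) : ℤ) * (k' * a) = (Int.gcd D k : ℕ) * (D' * m) := by
      calc ((Int.gcd D k : ℕ) : ℤ) * (k' * a) = ((Int.gcd D k : ℕ) * k') * a := by ring
        _ = k * a := by rw [← hk']
        _ = D * m := hm
        _ = ((Int.gcd D k : ℕ) * D') * m := by rw [← hD']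
        _ = _ := by ring
    exact mul_left_cancel₀ hg' h4
  exact hcop.dvd_of_dvd_mul_left h3

theorem gg_pos {r : ℤ × ℤ × ℤ} (h : r ∈ cl) : 0 < gg r.1 := by
  revert r
  decide +kernel

theorem pos_of_mem {r : ℤ × ℤ × ℤ} (h : r ∈ cl) : 0 < r.1 := by
  revert r
  decide +kernel

theorem mem_As {r : ℤ × ℤ × ℤ} (hr : r ∈ cl) {c : ℕ} {a : ℤ} (hdvd : 3125 * r.1 ∣ 1539000 * a)
    (ha : a ^ 2 ≤ 177408000) (hok : okA r.1 r.2.1 c a = true) : a ∈ As r.1 r.2.1 c := by
  have hpos := pos_of_mem hr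
  have hg := gg_pos hr
  obtain ⟨k, hk⟩ : gg r.1 ∣ a := dvd_of (by omega) hdvd
  have ha1 : a < 13320 := by nlinarith only [ha]
  have ha2 : -13320 < a := by nlinarith only [ha]
  have hgn : ((gg r.1).toNat : ℤ) = gg r.1 := Int.toNat_of_nonneg hg.le
  have hkm : |k| ≤ mm r.1 := by
    have h1 : k.natAbs * (gg r.1).toNat < 13320 := by
      have h2 : ((k.natAbs * (gg r.1).toNat : ℕ) : ℤ) = |a| := by
        rw [hk, abs_mul, abs_of_pos hg]
        push_cast
        rw [hgn]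
        ring
      have h3 : |a| < 13320 := abs_lt.2 ⟨ha2, ha1⟩
      rw [← h2] at h3
      exact_mod_cast h3
    have h2 : k.natAbs ≤ mm r.1 := by
      unfold mm
      rw [Nat.le_div_iff_mul_le (by omega)]
      exact h1.le
    rw [Int.abs_eq_natAbs]
    exact_mod_cast h2
  rw [As, List.mem_filter]
  refine ⟨List.mem_map.2 ⟨(k + mm r.1).toNat, List.mem_range.2 ?_, ?_⟩, hok⟩
  · have := abs_le.1 hkm
    omega
  · have := abs_le.1 hkm
    rw [Int.toNat_of_nonneg (by omega), hk]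
    ring

end Cfsg.Agent.H456.LD.HN.Enum
end

-- part: H456/LD/HN/Val
section
/-!
# The values of the irreducible characters of the Harada–Norton group (helper456)
-/

set_option autoImplicit false
set_option maxRecDepth 100000

open scoped ComplexConjugate
open Cfsg Subgroup

namespace Cfsg.Agent.H456.LD.HN.Val

open Cfsg.Agent.Characters.Core
open Cfsg.Agent.H173.RS.HNRow (u orderOf_u card_HN)
open Cfsg.Agent.H456.LD.HN.Tab (A5 t2 z5)
open Cfsg.Agent.H456.LD.HN.Types Cfsg.Agent.H456.LD.HN.Grp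

local notation "Γ" => Cfsg.Spor.HN

/-- the degree -/
theorem deg_eq (χ : IrrCharacter Γ) : (χ : Γ → ℂ) 1 = (charDegree (χ : Γ → ℂ) : ℕ) :=
  Cfsg.Agent.Blocks.Basic.irr_one_eq_charDegree χ.2

theorem val_u {χ : IrrCharacter Γ} {v : ℤ} (h : T (P : Subgroup Γ) (χ : Γ → ℂ) 1 = 6 * v) : (χ : Γ → ℂ) u = v := by
  classical
  have := Fintype.ofFinite (P : Subgroup Γ)
  rw [T_erase, Finset.sum_congr rfl (g := fun _ => (χ : Γ → ℂ) u)] at h
  · rw [Finset.sum_const, card_erase loc, nsmul_eq_mul] at h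
    have h6 : ((6 : ℕ) : ℂ) ≠ 0 := by norm_num
    apply mul_left_cancel₀ h6
    rw [h]
    norm_num
  · intro x hx
    rw [mul_one]
    exact (Cfsg.Agent.Blocks.Basic.irr_isConj χ.2 (conj_P x.2 fun e => (Finset.mem_erase.1 hx).1 (Subtype.ext e))).symm

theorem dvd_v {χ : IrrCharacter Γ} {v : ℤ} (h : T (P : Subgroup Γ) (χ : Γ → ℂ) 1 = 6 * v) :
    (7 : ℤ) ∣ charDegree (χ : Γ → ℂ) - v := by
  have := Fintype.ofFinite (P : Subgroup Γ)
  obtain ⟨m, hm⟩ := SmallSimple.TheoremBCor.exists_sum_eq (isIrr_isCharacter χ.2) (P : Subgroup Γ)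
  rw [T_eq] at h
  simp only [mul_one] at h
  have h7 : Nat.card (P : Subgroup Γ) = 7 := hP
  rw [hm, h7, deg_eq] at h
  have h1 : (m : ℤ) * 7 - charDegree (χ : Γ → ℂ) = 6 * v := by exact_mod_cast h
  omega

theorem exists_integral (χ : IrrCharacter Γ) [Fintype (P : Subgroup Γ)] (k : K) :
    ∃ y : ℂ, IsIntegral ℤ y ∧ ∑ x : (P : Subgroup Γ), (χ : Γ → ℂ) (x * k) = 7 * y := by
  have := Fintype.ofFinite K
  let φ : K × (P : Subgroup Γ) →* Γ := K.subtype.noncommCoprod (P : Subgroup Γ).subtype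
    (fun a b => (hK.comm b.2 a.2).symm)
  have h1 := Cfsg.Agent.SmallSimple.ThetaSetup.isCharacter_inner (isCharacter_comp φ (isIrr_isCharacter χ.2))
    (isIrr_one (G := (P : Subgroup Γ)))
  refine ⟨_, Cfsg.Agent.Characters.GaloisBasic.isIntegral_apply h1 k, ?_⟩
  rw [classInner_def]
  have h7 : Nat.card (P : Subgroup Γ) = 7 := hP
  rw [h7, ← mul_assoc, show ((7 : ℂ) * ((7 : ℕ) : ℂ)⁻¹) = 1 by norm_num, one_mul]
  refine Finset.sum_congr rfl fun x _ => ?_
  have h2 : φ (k, x) = (x : Γ) * k := by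
    show (k : Γ) * x = x * k
    exact (hK.comm x.2 k.2).symm
  have h3 : ((1 : ↥(P : Subgroup Γ) → ℂ) x) = 1 := rfl
  show _ = (χ : Γ → ℂ) (φ (k, x)) * conj ((1 : ↥(P : Subgroup Γ) → ℂ) x)
  rw [h2, h3, map_one, mul_one]

theorem dvd_b {χ : IrrCharacter Γ} {b a : ℤ} (h : T (P : Subgroup Γ) (χ : Γ → ℂ) (ρ t2 : K) = 6 * b)
    (ha : (χ : Γ → ℂ) t = a) : (7 : ℤ) ∣ a - b := by
  have := Fintype.ofFinite (P : Subgroup Γ)
  obtain ⟨y, hy, hy2⟩ := exists_integral χ (ρ t2)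
  rw [T_eq, hy2, show ((ρ t2 : K) : Γ) = t from rfl, ha] at h
  have h1 : y = (((a + 6 * b : ℤ) : ℚ) / 7 : ℚ) := by
    push_cast
    linear_combination h / 7
  obtain ⟨c, hc⟩ := Cfsg.Agent.Characters.GaloisBasic.exists_int_of_isIntegral hy ⟨_, h1⟩
  rw [hc] at h
  have h2 : (7 : ℤ) * c - a = 6 * b := by exact_mod_cast h
  omega

theorem even_w {χ : IrrCharacter Γ} (hrat : ∀ g, ∃ q : ℚ, (χ : Γ → ℂ) g = q) {w : ℤ}
    (h : T (P : Subgroup Γ) (χ : Γ → ℂ) (ρ z5 : K) = 3 * w) : (2 : ℤ) ∣ w := by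
  classical
  have := Fintype.ofFinite (P : Subgroup Γ)
  obtain ⟨q, hq⟩ := Cfsg.Agent.Characters.GaloisBasic.exists_int_of_rat (isIrr_isCharacter χ.2) (u * z) (hrat _)
  have hu7 : u ^ 7 = 1 := by rw [← orderOf_u, pow_orderOf_eq_one]
  have hz5 : z ^ 5 = 1 := by rw [← orderOf_z, pow_orderOf_eq_one]
  have hcomm : Commute u z := comm_P u_memP z5
  have hval : ∀ x : (P : Subgroup Γ), x ≠ 1 → (χ : Γ → ℂ) (x * z) = q := by
    intro x hx
    have hx' : (x : Γ) ∈ zpowers u := x.2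
    obtain ⟨j, hj⟩ := mem_powers_iff_mem_zpowers.2 hx'
    have hj' : u ^ j = x := hj
    have hj7 : ¬ 7 ∣ j := by
      rintro ⟨k, rfl⟩
      apply hx
      apply Subtype.ext
      rw [← hj', pow_mul, hu7, one_pow]
      rfl
    -- `m ≡ j` modulo 7, `m ≡ 1` modulo 5
    have hm7 : (15 * j + 21) % 7 = j % 7 := by omega
    have hm5 : (15 * j + 21) % 5 = 1 := by omega
    have hcop : (15 * j + 21).Coprime 35 := by
      have h1 : (15 * j + 21).Coprime 5 := by
        rw [Nat.coprime_comm]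
        exact (Nat.Prime.coprime_iff_not_dvd (by norm_num)).2 (by omega)
      have h2 : (15 * j + 21).Coprime 7 := by
        rw [Nat.coprime_comm]
        exact (Nat.Prime.coprime_iff_not_dvd (by norm_num)).2 (by omega)
      exact Nat.Coprime.mul_right h1 h2
    obtain ⟨σ, hσ⟩ := Cfsg.Agent.Characters.GaloisBasic.exists_ringEquiv_pow (n := 35) (by norm_num) hcop
    have h35 : (u * z) ^ 35 = 1 := by
      rw [hcomm.mul_pow, show 35 = 7 * 5 by norm_num, pow_mul u, hu7, one_pow, mul_comm 7 5, pow_mul z, hz5, one_pow, one_mul]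
    have h1 := Cfsg.Agent.Characters.GaloisBasic.map_apply (σ : ℂ →+* ℂ) hσ (isIrr_isCharacter χ.2) (by norm_num) h35
    have h2 : (u * z) ^ (15 * j + 21) = x * z := by
      rw [hcomm.mul_pow, ← hj']
      refine congrArg₂ HMul.hMul ?_ ?_
      · rw [pow_eq_pow_iff_modEq, orderOf_u]
        exact hm7
      · have : z ^ (15 * j + 21) = z ^ 1 := by
          rw [pow_eq_pow_iff_modEq, orderOf_z]
          exact hm5
        rw [this, pow_one]
    rw [h2, hq] at h1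
    rw [← h1]
    simp
  rw [T_erase, show ((ρ z5 : K) : Γ) = z from rfl, Finset.sum_congr rfl (g := fun _ => (q : ℂ))] at h
  · rw [Finset.sum_const, card_erase loc, nsmul_eq_mul] at h
    have h1 : (6 : ℤ) * q = 3 * w := by
      have : (((6 : ℕ) : ℂ)) * (q : ℂ) = 3 * w := h
      exact_mod_cast this
    omega
  · intro x hx
    exact hval x (Finset.mem_erase.1 hx).1

end Cfsg.Agent.H456.LD.HN.Val
end

-- part: H456/LD/HN/Blk
section
/-!
# The 5-block of the character of degree 653125 of the Harada–Norton group (helper456)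
-/

set_option autoImplicit false
set_option maxRecDepth 100000

open scoped ComplexConjugate
open Cfsg Subgroup

namespace Cfsg.Agent.H456.LD.HN.Blk

open Cfsg.Agent.Characters.Core
open Cfsg.Agent.H173.RS.HNRow (u orderOf_u card_HN)
open Cfsg.Agent.H456.LD.HN.Tab (A5 t2 z5)
open Cfsg.Agent.H456.LD.HN.Types Cfsg.Agent.H456.LD.HN.Grp Cfsg.Agent.H456.LD.HN.Val Cfsg.Agent.H456.LD.HN.Enum

local notation "Γ" => Cfsg.Spor.HN

instance fact5 : Fact (Nat.Prime 5) := ⟨by norm_num⟩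

instance finIrr : Finite (IrrCharacter Γ) := finite_irr

/-- the degree -/
noncomputable def dd (χ : IrrCharacter Γ) : ℕ := charDegree (χ : Γ → ℂ)

theorem dd_eq (χ : IrrCharacter Γ) : (χ : Γ → ℂ) 1 = (dd χ : ℂ) := deg_eq χ

theorem dd_pos (χ : IrrCharacter Γ) : 0 < dd χ := Cfsg.Agent.Blocks.Basic.charDegree_pos χ.2

theorem exists_aa (χ : IrrCharacter Γ) : ∃ a : ℤ, (χ : Γ → ℂ) t = a := by
  obtain ⟨-, a, -, h, -, -⟩ := Cfsg.Agent.SmallSimple.InvolColumn.exists_int_of_char (isIrr_isCharacter χ.2) t_sq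
  exact ⟨a, h⟩

/-- the value at the involution -/
noncomputable def aa (χ : IrrCharacter Γ) : ℤ := (exists_aa χ).choose

theorem aa_eq (χ : IrrCharacter Γ) : (χ : Γ → ℂ) t = (aa χ : ℂ) := (exists_aa χ).choose_spec

/-- the value at `u` -/
noncomputable def vv (χ : IrrCharacter Γ) : ℤ := (types loc χ).choose

/-- the value at `u t` -/
noncomputable def bb (χ : IrrCharacter Γ) : ℤ := (types loc χ).choose_spec.choose

/-- the weight of the column of `u z` -/
noncomputable def ww (χ : IrrCharacter Γ) : ℤ := (types loc χ).choose_spec.choose_spec.choose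

theorem spec (χ : IrrCharacter Γ) : (vv χ, bb χ, ww χ) ∈ tyList ∧
    T (P : Subgroup Γ) (χ : Γ → ℂ) (1 : Γ) = 6 * vv χ ∧ T (P : Subgroup Γ) (χ : Γ → ℂ) (ρ t2 : K) = 6 * bb χ ∧
    T (P : Subgroup Γ) (χ : Γ → ℂ) (ρ z5 : K) = 3 * ww χ ∧
    ((vv χ = 3 ∨ vv χ = -3) → ∃ (NE : Finset (IrrCharacter Γ)) (ε : IrrCharacter Γ → ℤ) (d : ℤ), NE.card = 3 ∧
      (∀ ψ ∈ NE, (ε ψ = 1 ∨ ε ψ = -1) ∧ T (P : Subgroup Γ) (ψ : Γ → ℂ) (1 : Γ) = 36 * ε ψ) ∧ vv χ = -3 * d ∧
      ∀ g : Γ, ¬ 7 ∣ orderOf g → ∑ ψ ∈ NE, (ε ψ : ℂ) * (ψ : Γ → ℂ) g = d * (χ : Γ → ℂ) g) :=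
  (types loc χ).choose_spec.choose_spec.choose_spec

theorem vv_eq (χ : IrrCharacter Γ) : (χ : Γ → ℂ) u = (vv χ : ℂ) := val_u (spec χ).2.1

theorem dvd_vv (χ : IrrCharacter Γ) : (7 : ℤ) ∣ dd χ - vv χ := dvd_v (spec χ).2.1

theorem dvd_bb (χ : IrrCharacter Γ) : (7 : ℤ) ∣ aa χ - bb χ := dvd_b (spec χ).2.2.1 (aa_eq χ)

theorem four_dvd {χ : IrrCharacter Γ} (h : dd χ ≠ 1) : |aa χ| < dd χ ∧ (4 : ℤ) ∣ dd χ - aa χ := by
  have hne : (χ : Γ → ℂ) ≠ 1 := by
    intro h1
    apply h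
    have h2 := dd_eq χ
    rw [h1, Pi.one_apply] at h2
    exact_mod_cast h2.symm
  have hcomm : commutator Γ = ⊤ := by
    rcases (inferInstance : (commutator Γ).Normal).eq_bot_or_eq_top with h1 | h1
    · exfalso
      have h2 := (_root_.commutator_eq_bot_iff_center_eq_top Γ).1 h1
      apply Cfsg.Agent.H315.PwHN.notComm
      intro a b
      have h3 : a ∈ center Γ := by rw [h2]; exact mem_top _
      exact (mem_center_iff.1 h3 b).symm
    · exact h1
  obtain ⟨a, h1, h2, h3⟩ := Cfsg.Agent.SmallSimple.InvolColumn.exists_int hcomm χ.2 hne t_sq t_ne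
  have h4 : a = aa χ := by
    have := aa_eq χ
    rw [h1] at this
    exact_mod_cast this
  rw [← h4]
  exact ⟨h2, h3⟩

theorem sum_sq_t [Fintype (IrrCharacter Γ)] : ∑ χ : IrrCharacter Γ, (aa χ) ^ 2 = 177408000 := by
  have h := Cfsg.Agent.H686.CharKit.sum_normSq (G := Γ) t
  rw [card_cent_t] at h
  have h1 : ∀ χ : IrrCharacter Γ, Complex.normSq ((χ : Γ → ℂ) t) = (((aa χ) ^ 2 : ℤ) : ℝ) := by
    intro χ
    rw [aa_eq, Complex.normSq_intCast]
    push_cast
    ring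
  rw [Finset.sum_congr rfl (fun χ _ => h1 χ), ← Int.cast_sum] at h
  exact_mod_cast h

theorem sum_sq_one [Fintype (IrrCharacter Γ)] : ∑ χ : IrrCharacter Γ, ((dd χ : ℤ)) ^ 2 = 273030912000000 := by
  have h := Cfsg.Agent.H686.CharKit.sum_normSq (G := Γ) 1
  have h3 : Nat.card (centralizer ({1} : Set Γ)) = 273030912000000 := by
    rw [← card_HN]
    have : centralizer ({1} : Set Γ) = ⊤ := by
      rw [eq_top_iff]
      intro g _
      rw [mem_centralizer_singleton_iff]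
      simp
    rw [this, card_top]
  rw [h3] at h
  have h1 : ∀ χ : IrrCharacter Γ, Complex.normSq ((χ : Γ → ℂ) 1) = (((dd χ : ℤ) ^ 2 : ℤ) : ℝ) := by
    intro χ
    rw [dd_eq, Complex.normSq_natCast]
    push_cast
    ring
  rw [Finset.sum_congr rfl (fun χ _ => h1 χ), ← Int.cast_sum] at h
  exact_mod_cast h

theorem sum_mul_t [Fintype (IrrCharacter Γ)] : ∑ χ : IrrCharacter Γ, (dd χ : ℤ) * aa χ = 0 := by
  classical
  have := Fintype.ofFinite Γ
  have h := Cfsg.Agent.S0145.sum_irr_mul_conj (G := Γ) t 1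
  rw [if_neg (fun h => t_ne (isConj_one_left.1 h))] at h
  have h1 : ∀ χ : IrrCharacter Γ, (χ : Γ → ℂ) t * conj ((χ : Γ → ℂ) 1) = (((dd χ : ℤ) * aa χ : ℤ) : ℂ) := by
    intro χ
    rw [aa_eq, dd_eq, Complex.conj_natCast]
    push_cast
    ring
  rw [Finset.sum_congr rfl (fun χ _ => h1 χ), ← Int.cast_sum] at h
  exact_mod_cast h

theorem mod_nineteen [Fintype (IrrCharacter Γ)] (χ : IrrCharacter Γ) :
    dd χ % 19 = 0 ∨ dd χ % 19 = 1 ∨ dd χ % 19 = 18 ∨ dd χ % 19 = 9 ∨ dd χ % 19 = 10 := by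
  have : Fact (Nat.Prime 19) := ⟨by norm_num⟩
  obtain ⟨y, hy⟩ := Cfsg.Agent.H315.PwHN.exists19
  obtain ⟨Q, W, -, -, -, hcol⟩ := Cfsg.Agent.H653.Sieve.exists_col notComm (N := 273030912000000) card_HN hy (k := 1)
    (by rw [Cfsg.Agent.H315.PwHN.card_nineteen hy]) 9 2 [(0, 0), (1, 2), (18, -2), (9, -1), (10, 1)] 0 false
    (by decide +kernel)
  have h := hcol.1 χ
  simp only [List.mem_cons, Prod.mk.injEq, List.not_mem_nil, or_false] at h
  rcases h with h | h | h | h | h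
  · exact Or.inl h.1
  · exact Or.inr (Or.inl h.1)
  · exact Or.inr (Or.inr (Or.inl h.1))
  · exact Or.inr (Or.inr (Or.inr (Or.inl h.1)))
  · exact Or.inr (Or.inr (Or.inr (Or.inr h.1)))

/-! ### The block -/

section block

variable {M : Ideal AlgInt} {χ0 : IrrCharacter Γ}

theorem quot_u (χ : IrrCharacter Γ) : ∃ q : ℤ, 650073600000 * vv χ = dd χ * q ∧ centralChar (χ : Γ → ℂ) u = q := by
  obtain ⟨q, hq⟩ := Cfsg.Agent.SmallSimple.InvolColumn.dvd_index_mul χ.2 (vv_eq χ)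
  rw [index_u] at hq
  have hq' : (650073600000 : ℤ) * vv χ = dd χ * q := by
    have : ((650073600000 : ℕ) : ℤ) * vv χ = dd χ * q := hq
    exact_mod_cast this
  refine ⟨q, hq', ?_⟩
  rw [Cfsg.Agent.Blocks.Basic.centralChar_def, vv_eq, dd_eq, index_u, div_eq_iff (by exact_mod_cast (dd_pos χ).ne')]
  have : (((650073600000 : ℤ) * vv χ : ℤ) : ℂ) = ((dd χ * q : ℤ) : ℂ) := by rw [hq']
  push_cast at this ⊢
  rw [this]
  ring

theorem quot_t (χ : IrrCharacter Γ) : ∃ q : ℤ, 1539000 * aa χ = dd χ * q ∧ centralChar (χ : Γ → ℂ) t = q := by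
  obtain ⟨q, hq⟩ := Cfsg.Agent.SmallSimple.InvolColumn.dvd_index_mul χ.2 (aa_eq χ)
  rw [index_t] at hq
  have hq' : (1539000 : ℤ) * aa χ = dd χ * q := by
    have : ((1539000 : ℕ) : ℤ) * aa χ = dd χ * q := hq
    exact_mod_cast this
  refine ⟨q, hq', ?_⟩
  rw [Cfsg.Agent.Blocks.Basic.centralChar_def, aa_eq, dd_eq, index_t, div_eq_iff (by exact_mod_cast (dd_pos χ).ne')]
  have : (((1539000 : ℤ) * aa χ : ℤ) : ℂ) = ((dd χ * q : ℤ) : ℂ) := by rw [hq']
  push_cast at this ⊢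
  rw [this]
  ring

/-- the hypotheses on `χ₀` -/
structure Hyp (M : Ideal AlgInt) (χ0 : IrrCharacter Γ) : Prop where
  hM : IsPModular 5 M
  deg : dd χ0 = 653125
  rat : ∀ g, ∃ q : ℚ, (χ0 : Γ → ℂ) g = q

theorem ty0 (h : Hyp M χ0) : vv χ0 = 4 ∧ bb χ0 = 0 ∧ ww χ0 = -2 := by
  have h1 := (spec χ0).1
  have h2 := dvd_vv χ0
  rw [h.deg] at h2
  have h3 := even_w h.rat (spec χ0).2.2.2.1
  simp only [tyList, List.mem_cons, Prod.mk.injEq, List.not_mem_nil, or_false] at h1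
  push_cast at h2
  omega

/-- the congruence at `u` -/
theorem cong_u (h : Hyp M χ0) {χ : IrrCharacter Γ} (hχ : χ ∈ blockOf M (χ0 : Γ → ℂ)) :
    ∃ q : ℤ, 650073600000 * vv χ = dd χ * q ∧ (5 : ℤ) ∣ q - 2 := by
  obtain ⟨q, h1, h2⟩ := quot_u χ
  obtain ⟨q0, h3, h4⟩ := quot_u χ0
  rw [(ty0 h).1, h.deg] at h3
  have hq0 : q0 = 3981312 := by
    push_cast at h3
    omega
  refine ⟨q, h1, ?_⟩
  have h5 := hχ u
  rw [h2, h4, hq0, ← Int.cast_sub, Cfsg.Agent.Blocks.Local.memLocalIdeal_intCast_iff h.hM] at h5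
  push_cast at h5
  omega

theorem cong_t (h : Hyp M χ0) {χ : IrrCharacter Γ} (hχ : χ ∈ blockOf M (χ0 : Γ → ℂ)) :
    ∃ q q0 : ℤ, 1539000 * aa χ = dd χ * q ∧ 1539000 * aa χ0 = dd χ0 * q0 ∧ (5 : ℤ) ∣ q - q0 := by
  obtain ⟨q, h1, h2⟩ := quot_t χ
  obtain ⟨q0, h3, h4⟩ := quot_t χ0
  refine ⟨q, q0, h1, h3, ?_⟩
  have h5 := hχ t
  rw [h2, h4, ← Int.cast_sub, Cfsg.Agent.Blocks.Local.memLocalIdeal_intCast_iff h.hM] at h5
  push_cast at h5
  omega

theorem pow_dvd (h : Hyp M χ0) {χ : IrrCharacter Γ} (hχ : χ ∈ blockOf M (χ0 : Γ → ℂ)) : 3125 ∣ dd χ := by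
  obtain ⟨q, h1, h2⟩ := cong_u h hχ
  have h3 : (3125 : ℤ) ∣ dd χ * q := by
    rw [← h1]
    exact Dvd.dvd.mul_right (by norm_num) _
  have h4 : IsCoprime (3125 : ℤ) q := by
    have h5 : IsCoprime (5 : ℤ) q := by
      rw [Int.isCoprime_iff_gcd_eq_one]
      rcases (Nat.dvd_prime (by norm_num : Nat.Prime 5)).1 (Nat.gcd_dvd_left 5 q.natAbs) with h6 | h6
      · exact h6
      · exfalso
        have h7 : (5 : ℕ) ∣ q.natAbs := by
          rw [← h6]
          exact Nat.gcd_dvd_right _ _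
        have h8 : (5 : ℤ) ∣ q := Int.natCast_dvd.2 h7
        omega
    have h9 : (3125 : ℤ) = 5 ^ 5 := by norm_num
    rw [h9]
    exact h5.pow_left
  have h5 := h4.dvd_of_dvd_mul_right h3
  exact_mod_cast h5

theorem defect (h : Hyp M χ0) : blockDefect 5 (blockOf M (χ0 : Γ → ℂ)) = 1 := by
  have := Cfsg.Agent.Blocks.Local.isPrime_of_isPModular h.hM
  have hs : sInf ((fun χ : IrrCharacter Γ => (charDegree (χ : Γ → ℂ)).factorization 5) '' blockOf M (χ0 : Γ → ℂ)) = 5 := by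
    apply le_antisymm
    · refine Nat.sInf_le ⟨χ0, Cfsg.Agent.Blocks.Basic.mem_blockOf_self χ0, ?_⟩
      have h1 : charDegree (χ0 : Γ → ℂ) = 653125 := h.deg
      show (charDegree (χ0 : Γ → ℂ)).factorization 5 = 5
      rw [h1, show (653125 : ℕ) = 5 ^ 5 * 209 by norm_num, Nat.factorization_mul (by norm_num) (by norm_num),
        Nat.Prime.factorization_pow (by norm_num : Nat.Prime 5), Finsupp.add_apply,
        Nat.factorization_eq_zero_of_not_dvd (show ¬ 5 ∣ 209 by norm_num), Finsupp.single_eq_same]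
    · refine le_csInf ⟨_, χ0, Cfsg.Agent.Blocks.Basic.mem_blockOf_self χ0, rfl⟩ ?_
      rintro _ ⟨χ, hχ, rfl⟩
      have h1 : 5 ^ 5 ∣ charDegree (χ : Γ → ℂ) := by
        have := pow_dvd h hχ
        exact this
      exact ((by norm_num : Nat.Prime 5).pow_dvd_iff_le_factorization (dd_pos χ).ne').1 h1
  rw [Cfsg.Agent.Blocks.Basic.blockDefect_def, hs, Cfsg.Agent.H173.RS.HNRow.fac (Or.inr rfl)]

theorem card_le (h : Hyp M χ0) : Nat.card (blockOf M (χ0 : Γ → ℂ)) ≤ 5 := by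
  have h1 := (Cfsg.Agent.S4698.result 5 M h.hM (blockOf M (χ0 : Γ → ℂ)) ⟨χ0, rfl⟩ 1 (defect h)).1 (by norm_num)
  simpa only [_root_.Nat.card_coe_set_eq, _root_.ge_iff_le, _root_.pow_one] using h1

open scoped Classical in
theorem orth (h : Hyp M χ0) [Fintype (IrrCharacter Γ)] {s : Γ} (hs : ¬ 5 ∣ orderOf s) {c : IrrCharacter Γ → ℤ}
    (hc : ∀ χ : IrrCharacter Γ, (χ : Γ → ℂ) s = c χ) :
    ∑ χ ∈ Finset.univ.filter (· ∈ blockOf M (χ0 : Γ → ℂ)), ww χ * c χ = 0 := by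
  have := Fintype.ofFinite Γ
  have := Fintype.ofFinite (P : Subgroup Γ)
  have hB : IsPBlock M (blockOf M (χ0 : Γ → ℂ)) := ⟨χ0, rfl⟩
  have := Fintype.ofFinite (blockOf M (χ0 : Γ → ℂ))
  have h1 : ∀ x : (P : Subgroup Γ), x ≠ 1 →
      ∑ χ ∈ Finset.univ.filter (· ∈ blockOf M (χ0 : Γ → ℂ)), (χ : Γ → ℂ) (x * z) * conj ((χ : Γ → ℂ) s) = 0 := by
    intro x hx
    have h2 := Cfsg.Agent.H653.CycSign.sum_mul_conj_apply h.hM hB (x := (x : Γ) * z) (s := s)
      (by rw [orderOf_xz x.2 (fun e => hx (Subtype.ext e))]; norm_num) hs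
    rw [← h2]
    exact Finset.sum_subtype (Finset.univ.filter (· ∈ blockOf M (χ0 : Γ → ℂ))) (fun χ => by simp only [_root_.Finset.mem_filter, _root_.Finset.mem_univ, _root_.true_and])
      (fun χ : IrrCharacter Γ => (χ : Γ → ℂ) (x * z) * conj ((χ : Γ → ℂ) s))
  have h3 : ∑ χ ∈ Finset.univ.filter (· ∈ blockOf M (χ0 : Γ → ℂ)), T (P : Subgroup Γ) (χ : Γ → ℂ) (ρ z5 : K) *
      conj ((χ : Γ → ℂ) s) = 0 := by
    have h4 : ∀ χ : IrrCharacter Γ, T (P : Subgroup Γ) (χ : Γ → ℂ) (ρ z5 : K) * conj ((χ : Γ → ℂ) s) =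
        ∑ x ∈ (Finset.univ : Finset (P : Subgroup Γ)).erase 1, (χ : Γ → ℂ) (x * z) * conj ((χ : Γ → ℂ) s) := by
      intro χ
      rw [T_erase, Finset.sum_mul]
      rfl
    rw [Finset.sum_congr rfl (fun χ _ => h4 χ), Finset.sum_comm]
    exact Finset.sum_eq_zero fun x hx => h1 x (Finset.mem_erase.1 hx).1
  have h5 : ∀ χ : IrrCharacter Γ, T (P : Subgroup Γ) (χ : Γ → ℂ) (ρ z5 : K) * conj ((χ : Γ → ℂ) s) =
      3 * ((ww χ * c χ : ℤ) : ℂ) := by
    intro χ
    rw [(spec χ).2.2.2.1, hc, map_intCast]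
    push_cast
    ring
  rw [Finset.sum_congr rfl (fun χ _ => h5 χ), ← Finset.mul_sum, ← Int.cast_sum] at h3
  have h6 := (mul_eq_zero.1 h3).resolve_left (by norm_num)
  exact_mod_cast h6

/-! ### The candidates -/

theorem vv_ne_zero (h : Hyp M χ0) {χ : IrrCharacter Γ} (hχ : χ ∈ blockOf M (χ0 : Γ → ℂ)) : vv χ ≠ 0 := by
  intro h0
  obtain ⟨q, h1, h2⟩ := cong_u h hχ
  rw [h0, mul_zero] at h1
  have h3 : q = 0 := by
    rcases mul_eq_zero.1 h1.symm with h4 | h4
    · have := dd_pos χ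
      omega
    · exact h4
  omega

/-- the degree divided by 3125 -/
noncomputable def nn (χ : IrrCharacter Γ) : ℕ := dd χ / 3125

theorem dd_nn (h : Hyp M χ0) {χ : IrrCharacter Γ} (hχ : χ ∈ blockOf M (χ0 : Γ → ℂ)) : dd χ = 3125 * nn χ :=
  (Nat.mul_div_cancel' (pow_dvd h hχ)).symm

theorem aa_sq (χ : IrrCharacter Γ) : aa χ ^ 2 ≤ 177408000 := by
  have := Fintype.ofFinite (IrrCharacter Γ)
  rw [← sum_sq_t]
  exact Finset.single_le_sum (f := fun χ : IrrCharacter Γ => aa χ ^ 2) (fun χ _ => sq_nonneg _) (Finset.mem_univ χ)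

theorem dd_sq (χ : IrrCharacter Γ) : (dd χ : ℤ) ^ 2 ≤ 273030912000000 := by
  have := Fintype.ofFinite (IrrCharacter Γ)
  rw [← sum_sq_one]
  exact Finset.single_le_sum (f := fun χ : IrrCharacter Γ => (dd χ : ℤ) ^ 2) (fun χ _ => sq_nonneg _) (Finset.mem_univ χ)

theorem mem_tyl {v b w : ℤ} (h : (v, b, w) ∈ tyList) (h0 : v ≠ 0) (h5 : ¬ (v = 5 ∨ v = -5)) : (v, b, w) ∈ tyl := by
  simp only [tyList, List.mem_cons, Prod.mk.injEq, List.not_mem_nil, or_false] at h
  rcases h with h | h | h | h | h | h | h | h | h | h | h <;> obtain ⟨rfl, rfl, rfl⟩ := h <;>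
    first
    | exact absurd rfl h0
    | exact absurd (Or.inl rfl) h5
    | exact absurd (Or.inr rfl) h5
    | decide

theorem mem_cand (h : Hyp M χ0) {χ : IrrCharacter Γ} (hχ : χ ∈ blockOf M (χ0 : Γ → ℂ)) (h5 : ¬ (vv χ = 5 ∨ vv χ = -5)) :
    (((nn χ : ℕ) : ℤ), bb χ, ww χ) ∈ cl := by
  have := Fintype.ofFinite (IrrCharacter Γ)
  obtain ⟨q, h1, h2⟩ := cong_u h hχ
  have hd := dd_nn h hχ
  have hpos := dd_pos χ
  have hn0 : 0 < nn χ := by
    rcases Nat.eq_zero_or_pos (nn χ) with h0 | h0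
    · rw [h0] at hd; omega
    · exact h0
  have h3 : 208023552 * vv χ = nn χ * q := by
    have : (3125 : ℤ) * (208023552 * vv χ) = 3125 * (nn χ * q) := by
      calc (3125 : ℤ) * (208023552 * vv χ) = 650073600000 * vv χ := by ring
        _ = dd χ * q := h1
        _ = ((3125 * nn χ : ℕ) : ℤ) * q := by rw [← hd]
        _ = _ := by push_cast; ring
    exact mul_left_cancel₀ (by norm_num) this
  refine mem_cl hn0 ?_ ?_ ?_ ?_ (mem_tyl (spec χ).1 (vv_ne_zero h hχ) h5) ?_ ?_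
  · have h4 := dd_sq χ
    rw [hd] at h4
    push_cast at h4
    by_contra hcon
    have h6 : (5288 : ℤ) ≤ nn χ := by exact_mod_cast not_lt.1 hcon
    nlinarith only [h4, hcon]
  · have h4 : dd χ ∣ 273030912000000 := by
      rw [← card_HN]
      exact Cfsg.Agent.Blocks.Knorr.charDegree_dvd χ.2
    rw [hd, show (273030912000000 : ℕ) = 3125 * 87369891840 by norm_num] at h4
    exact Nat.dvd_of_mul_dvd_mul_left (by norm_num) h4
  · rw [← hd]
    exact mod_eleven χ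
  · rw [← hd]
    exact mod_nineteen χ
  · -- modulo 5
    obtain ⟨m, hm⟩ := h2
    have h6 : q = 5 * m + 2 := by omega
    rw [h6] at h3
    have h7 : (nn χ : ℤ) * (5 * m + 2) = 5 * (nn χ * m) + 2 * nn χ := by ring
    rw [h7] at h3
    generalize (nn χ : ℤ) * m = r at h3
    omega
  · have h8 := dvd_vv χ
    rw [hd] at h8
    push_cast at h8
    exact h8

/-- the residue -/
theorem mem_vals (h : Hyp M χ0) : ∃ c : ℕ, c < 5 ∧ ∀ χ : IrrCharacter Γ, χ ∈ blockOf M (χ0 : Γ → ℂ) →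
    ¬ (vv χ = 5 ∨ vv χ = -5) → aa χ ∈ As (nn χ : ℕ) (bb χ) c := by
  obtain ⟨q0, h3, h4⟩ := quot_t χ0
  refine ⟨(q0 % 5).toNat, by omega, ?_⟩
  intro χ hχ h5
  obtain ⟨q, q0', h1, h2, h6⟩ := cong_t h hχ
  have hq0 : q0' = q0 := by
    have h7 : (dd χ0 : ℤ) * q0' = dd χ0 * q0 := by rw [← h2, ← h3]
    have h8 : (dd χ0 : ℤ) ≠ 0 := by exact_mod_cast (dd_pos χ0).ne'
    exact mul_left_cancel₀ h8 h7
  rw [hq0] at h6
  have hc := mem_cand h hχ h5
  have hd := dd_nn h hχ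
  have hd1 : dd χ ≠ 1 := by omega
  obtain ⟨h9, h10⟩ := four_dvd hd1
  have hpos := dd_pos χ
  rw [hd] at h9 h10
  push_cast at h9 h10
  refine mem_As (r := ((nn χ : ℕ), bb χ, ww χ)) hc ⟨q, ?_⟩ (aa_sq χ) ?_
  · rw [h1, hd]
    push_cast
    ring
  · have h11 := dvd_bb χ
    have h12 : 1539000 * aa χ / (3125 * ((nn χ : ℕ) : ℤ)) = q := by
      rw [h1, hd]
      push_cast
      exact Int.mul_ediv_cancel_left _ (by omega)
    simp only [okA, Bool.and_eq_true, beq_iff_eq, decide_eq_true_eq]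
    refine ⟨⟨⟨by omega, by omega⟩, ?_⟩, h9⟩
    rw [h12]
    (clear * - h6; omega)

end block

end Cfsg.Agent.H456.LD.HN.Blk
end

-- part: H456/LD/HN/Kill
section
/-!
# The character of degree 3200000 of the Harada–Norton group (helper456)
-/

set_option autoImplicit false
set_option maxRecDepth 100000

open scoped ComplexConjugate
open Cfsg Subgroup

namespace Cfsg.Agent.H456.LD.HN.Kill

open Cfsg.Agent.Characters.Core
open Cfsg.Agent.H173.RS.HNRow (u orderOf_u card_HN)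
open Cfsg.Agent.H456.LD.HN.Tab (A5 t2 z5)
open Cfsg.Agent.H456.LD.HN.Types Cfsg.Agent.H456.LD.HN.Grp Cfsg.Agent.H456.LD.HN.Val Cfsg.Agent.H456.LD.HN.Enum
open Cfsg.Agent.H456.LD.HN.Blk

local notation "Γ" => Cfsg.Spor.HN

open scoped Classical in
/-- The second configuration is impossible. -/
theorem no_second {X1 X2 ψ : IrrCharacter Γ} (h12 : X1 ≠ X2) (d1 : dd X1 = 5225000) (d2 : dd X2 = 5225000)
    (d3 : dd ψ = 5878125) (a1 : aa X1 = -6600) (a2 : aa X2 = -6600) (a3 : aa ψ = -4675) (v1 : vv X1 = -3)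
    (v2 : vv X2 = -3) (v3 : vv ψ = 1) : False := by
  have := Fintype.ofFinite (IrrCharacter Γ)
  obtain ⟨NE, ε, d, hcard, hNE, hd, hrel⟩ := (spec X1).2.2.2.2 (Or.inr v1)
  rw [v1] at hd
  have hd1 : d = 1 := by omega
  subst hd1
  -- the members of `NE`
  have hv : ∀ χ ∈ NE, vv χ = 6 ∨ vv χ = -6 := by
    intro χ hχ
    obtain ⟨h1, h2⟩ := hNE χ hχ
    have h3 := (spec χ).2.1
    rw [h2] at h3
    have h4 : (36 : ℤ) * ε χ = 6 * vv χ := by exact_mod_cast h3
    omega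
  let e : IrrCharacter Γ → ℤ := fun χ => if χ ∈ NE then ε χ else 0
  have he : ∀ χ, vv χ ≠ 6 → vv χ ≠ -6 → e χ = 0 := by
    intro χ h1 h2
    simp only [e]
    rw [if_neg]
    intro h3
    rcases hv χ h3 with h4 | h4
    · exact h1 h4
    · exact h2 h4
  have e1 : e X1 = 0 := he _ (by omega) (by omega)
  have e2 : e X2 = 0 := he _ (by omega) (by omega)
  have e3 : e ψ = 0 := he _ (by omega) (by omega)
  have hsum : ∀ c : IrrCharacter Γ → ℤ, ∑ χ, e χ * c χ = ∑ χ ∈ NE, ε χ * c χ := by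
    intro c
    rw [← Finset.sum_subset (Finset.subset_univ NE)]
    · refine Finset.sum_congr rfl fun χ hχ => ?_
      simp only [e]
      rw [if_pos hχ]
    · intro χ _ hχ
      simp only [e]
      rw [if_neg hχ, zero_mul]
  have s1 : ∑ χ, e χ * (dd χ : ℤ) = 5225000 := by
    have h1 := hrel 1 (by rw [orderOf_one]; norm_num)
    rw [dd_eq, d1, Finset.sum_congr rfl (fun χ _ => by rw [dd_eq])] at h1
    rw [hsum]
    have h2 : ((∑ χ ∈ NE, ε χ * (dd χ : ℤ) : ℤ) : ℂ) = ((5225000 : ℤ) : ℂ) := by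
      push_cast
      rw [h1]
      norm_num
    exact_mod_cast h2
  have s2 : ∑ χ, e χ * aa χ = -6600 := by
    have h1 := hrel t (by rw [orderOf_t]; norm_num)
    rw [aa_eq, a1, Finset.sum_congr rfl (fun χ _ => by rw [aa_eq])] at h1
    rw [hsum]
    have h2 : ((∑ χ ∈ NE, ε χ * aa χ : ℤ) : ℂ) = ((-6600 : ℤ) : ℂ) := by
      push_cast
      rw [h1]
      norm_num
    exact_mod_cast h2
  have s3 : ∑ χ, e χ * e χ = 3 := by
    rw [hsum]
    rw [Finset.sum_congr rfl (g := fun _ => (1 : ℤ))]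
    · rw [Finset.sum_const, hcard]; norm_num
    · intro χ hχ
      simp only [e]
      rw [if_pos hχ]
      rcases (hNE χ hχ).1 with h | h <;> rw [h] <;> norm_num
  have hmain : ∑ χ, (3 * (dd χ : ℤ) - 6000 * aa χ - 18425000 * e χ) ^ 2 =
      9 * 273030912000000 + 36000000 * 177408000 + 339480625000000 * 3 - 36000 * 0 - 110550000 * 5225000 +
        221100000000 * (-6600) := by
    have hexp : ∑ χ, (3 * (dd χ : ℤ) - 6000 * aa χ - 18425000 * e χ) ^ 2 =
        9 * (∑ χ, (dd χ : ℤ) ^ 2) + 36000000 * (∑ χ, aa χ ^ 2) + 339480625000000 * (∑ χ, e χ * e χ) -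
          36000 * (∑ χ, (dd χ : ℤ) * aa χ) - 110550000 * (∑ χ, e χ * (dd χ : ℤ)) +
            221100000000 * (∑ χ, e χ * aa χ) := by
      rw [Finset.mul_sum, Finset.mul_sum, Finset.mul_sum, Finset.mul_sum, Finset.mul_sum, Finset.mul_sum,
        ← Finset.sum_add_distrib, ← Finset.sum_add_distrib, ← Finset.sum_sub_distrib, ← Finset.sum_sub_distrib,
        ← Finset.sum_add_distrib]
      refine Finset.sum_congr rfl fun χ _ => ?_
      ring
    rw [hexp, sum_sq_one, sum_sq_t, s3, sum_mul_t, s1, s2]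
  have h13 : ψ ≠ X1 := by rintro rfl; omega
  have h23 : ψ ≠ X2 := by rintro rfl; omega
  have hle : ∑ χ ∈ ({X1, X2, ψ} : Finset (IrrCharacter Γ)), (3 * (dd χ : ℤ) - 6000 * aa χ - 18425000 * e χ) ^ 2 ≤
      ∑ χ, (3 * (dd χ : ℤ) - 6000 * aa χ - 18425000 * e χ) ^ 2 :=
    Finset.sum_le_sum_of_subset_of_nonneg (Finset.subset_univ _) (fun χ _ _ => sq_nonneg _)
  rw [hmain, Finset.sum_insert (by simp [h12, h13.symm]), Finset.sum_pair h23.symm, d1, d2, d3, a1, a2, a3, e1, e2, e3] at hle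
  norm_num at hle

/-- The types of the candidates. -/
theorem vv_of {χ : IrrCharacter Γ} (h : (((nn χ : ℕ) : ℤ), bb χ, ww χ) ∈ cl) :
    (nn χ = 1672 → vv χ = -3) ∧ (nn χ = 1881 → vv χ = 1) := by
  have h1 := (spec χ).1
  simp only [tyList, List.mem_cons, Prod.mk.injEq, List.not_mem_nil, or_false] at h1
  have key : ∀ r ∈ cl, (r.1 = 1672 → r.2.1 = 1 ∧ r.2.2 = -1) ∧ (r.1 = 1881 → r.2.1 = 1 ∧ r.2.2 = 2) := by decide +kernel
  have h2 := key _ h
  constructor
  · intro h3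
    have h4 := h2.1 (by simp [h3])
    simp only at h4
    omega
  · intro h3
    have h4 := h2.2 (by simp [h3])
    simp only at h4
    omega

set_option maxHeartbeats 4000000 in
open scoped Classical in
/-- **Exactly one character of the block has degree 3200000.** -/
theorem unique {M : Ideal AlgInt} {χ0 : IrrCharacter Γ} (h : Hyp M χ0) :
    ∃ χ ∈ blockOf M (χ0 : Γ → ℂ), dd χ = 3200000 ∧ ∀ ψ ∈ blockOf M (χ0 : Γ → ℂ), dd ψ = 3200000 → ψ = χ := by
  have := Fintype.ofFinite (IrrCharacter Γ)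
  have hprime := Cfsg.Agent.Blocks.Local.isPrime_of_isPModular h.hM
  set Bf : Finset (IrrCharacter Γ) := Finset.univ.filter (· ∈ blockOf M (χ0 : Γ → ℂ)) with hBf
  have hmemB : ∀ χ, χ ∈ Bf ↔ χ ∈ blockOf M (χ0 : Γ → ℂ) := fun χ => by simp only [hBf, _root_.Finset.mem_filter, _root_.Finset.mem_univ, _root_.true_and]
  have h0B : χ0 ∈ Bf := (hmemB χ0).2 (Cfsg.Agent.Blocks.Basic.mem_blockOf_self χ0)
  have hcardB : Bf.card ≤ 5 := by
    have h1 := card_le h
    have h2 : Nat.card (blockOf M (χ0 : Γ → ℂ)) = Bf.card := by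
      rw [Nat.card_eq_card_finite_toFinset (Set.toFinite _)]
      congr 1
      ext χ
      rw [Set.Finite.mem_toFinset, hmemB]
    rwa [h2] at h1
  set Live : Finset (IrrCharacter Γ) := (Bf.erase χ0).filter (fun χ => ¬ (vv χ = 5 ∨ vv χ = -5)) with hLive
  have hLB : ∀ χ ∈ Live, χ ∈ blockOf M (χ0 : Γ → ℂ) ∧ ¬ (vv χ = 5 ∨ vv χ = -5) ∧ χ ≠ χ0 := by
    intro χ hχ
    rw [hLive, Finset.mem_filter, Finset.mem_erase, hmemB] at hχ
    exact ⟨hχ.1.2, hχ.2, hχ.1.1⟩
  have hLc : Live.card ≤ 4 := by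
    have h1 : Live.card ≤ (Bf.erase χ0).card := Finset.card_filter_le _ _
    rw [Finset.card_erase_of_mem h0B] at h1
    omega
  have hww0 : ∀ χ : IrrCharacter Γ, (vv χ = 5 ∨ vv χ = -5) → ww χ = 0 := by
    intro χ hχ
    have h1 := (spec χ).1
    simp only [tyList, List.mem_cons, Prod.mk.injEq, List.not_mem_nil, or_false] at h1
    omega
  obtain ⟨v0, b0, w0⟩ := ty0 h
  have hn0 : nn χ0 = 209 := by
    unfold nn
    rw [h.deg]
  have hsplit : ∀ c : IrrCharacter Γ → ℤ, ∑ χ ∈ Bf, ww χ * c χ = -2 * c χ0 + ∑ χ ∈ Live, ww χ * c χ := by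
    intro c
    rw [← Finset.add_sum_erase _ _ h0B, w0]
    congr 1
    rw [hLive, Finset.sum_filter_of_ne]
    intro χ _ hne hv
    exact hne (by rw [hww0 χ hv, zero_mul])
  have o1 := orth h (s := 1) (by rw [orderOf_one]; norm_num) (c := fun χ => (dd χ : ℤ)) (fun χ => by
    rw [dd_eq]; push_cast; rfl)
  have o2 := orth h (s := t) (by rw [orderOf_t]; norm_num) (c := aa) aa_eq
  rw [hsplit] at o1 o2
  have o1' : 209 * (-2) + ∑ χ ∈ Live, ((nn χ : ℕ) : ℤ) * ww χ = 0 := by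
    have h1 : ∑ χ ∈ Live, ww χ * (dd χ : ℤ) = 3125 * ∑ χ ∈ Live, ((nn χ : ℕ) : ℤ) * ww χ := by
      rw [Finset.mul_sum]
      refine Finset.sum_congr rfl fun χ hχ => ?_
      rw [dd_nn h (hLB χ hχ).1]
      push_cast
      ring
    rw [h1, h.deg] at o1
    push_cast at o1
    omega
  obtain ⟨c, hc, hAs⟩ := mem_vals h
  have hA0 : aa χ0 ∈ As 209 0 c := by
    have := hAs χ0 ((hmemB χ0).1 h0B) (by omega)
    rw [hn0, b0] at this
    exact_mod_cast this
  set f : IrrCharacter Γ → (ℤ × ℤ × ℤ) × ℤ := fun χ => ((((nn χ : ℕ) : ℤ), bb χ, ww χ), aa χ) with hf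
  have hsumL : ∀ g : (ℤ × ℤ × ℤ) × ℤ → ℤ, ((Live.toList.map f).map g).sum = ∑ χ ∈ Live, g (f χ) := by
    intro g
    rw [List.map_map, Finset.sum_map_toList]
    rfl
  have hcountL : ∀ q : (ℤ × ℤ × ℤ) × ℤ → Bool, (Live.toList.map f).countP q = (Live.filter (fun χ => q (f χ) = true)).card := by
    intro q
    rw [List.countP_map]
    have h1 : List.countP (q ∘ f) Live.toList = Multiset.countP (fun χ => q (f χ) = true) (Live.toList : Multiset (IrrCharacter Γ)) := by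
      rw [Multiset.coe_countP]
      refine List.countP_congr fun χ _ => ?_
      simp
    rw [h1, Finset.coe_toList, Multiset.countP_eq_card_filter]
    rfl
  have hsq : aa χ0 ^ 2 + ∑ χ ∈ Live, aa χ ^ 2 ≤ 177408000 := by
    have h1 : χ0 ∉ Live := fun hh => (hLB χ0 hh).2.2 rfl
    have h2 : aa χ0 ^ 2 + ∑ χ ∈ Live, aa χ ^ 2 = ∑ χ ∈ insert χ0 Live, aa χ ^ 2 := (Finset.sum_insert (f := fun χ => aa χ ^ 2) h1).symm
    rw [h2, ← sum_sq_t]
    exact Finset.sum_le_sum_of_subset_of_nonneg (Finset.subset_univ _) (fun χ _ _ => sq_nonneg _)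
  have hmain := enum c hc hA0 (Live.toList.map f) (by rw [List.length_map, Finset.length_toList]; exact hLc)
    (by
      intro r hr
      obtain ⟨χ, hχ, rfl⟩ := List.mem_map.1 hr
      rw [Finset.mem_toList] at hχ
      exact ⟨mem_cand h (hLB χ hχ).1 (hLB χ hχ).2.1, hAs χ (hLB χ hχ).1 (hLB χ hχ).2.1⟩)
    (by rw [hsumL]; exact o1')
    (by
      rw [hsumL]
      have h1 : ∑ χ ∈ Live, (f χ).2 * (f χ).1.2.2 = ∑ χ ∈ Live, ww χ * aa χ :=
        Finset.sum_congr rfl fun χ _ => mul_comm _ _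
      rw [h1]
      linarith only [o2])
    (by rw [hsumL]; exact hsq)
  rw [hcountL, hcountL, hcountL] at hmain
  rcases hmain with hmain | ⟨hm1, hm2⟩
  · obtain ⟨χ, hχ⟩ := Finset.card_eq_one.1 hmain
    have hχm : χ ∈ Live.filter (fun χ => decide ((f χ).1.1 = 1024) = true) := by
      rw [hχ]; exact Finset.mem_singleton_self χ
    rw [Finset.mem_filter, decide_eq_true_eq] at hχm
    have hn : nn χ = 1024 := by
      have : ((nn χ : ℕ) : ℤ) = 1024 := hχm.2
      exact_mod_cast this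
    refine ⟨χ, (hLB χ hχm.1).1, by rw [dd_nn h (hLB χ hχm.1).1, hn], ?_⟩
    intro ψ hψ hdψ
    have hnψ : nn ψ = 1024 := by unfold nn; rw [hdψ]
    have hψ5 : ¬ (vv ψ = 5 ∨ vv ψ = -5) := by
      intro h5
      have h6 := dvd_vv ψ
      rw [hdψ] at h6
      push_cast at h6
      obtain ⟨q, h7, h8⟩ := cong_u h hψ
      rw [hdψ] at h7
      push_cast at h7
      (clear * - h5 h7 h8; omega)
    have hψL : ψ ∈ Live.filter (fun χ => decide ((f χ).1.1 = 1024) = true) := by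
      rw [Finset.mem_filter, decide_eq_true_eq, hLive, Finset.mem_filter, Finset.mem_erase, hmemB]
      refine ⟨⟨⟨?_, hψ⟩, hψ5⟩, ?_⟩
      · rintro rfl
        rw [h.deg] at hdψ
        omega
      · show ((nn ψ : ℕ) : ℤ) = 1024
        rw [hnψ]
        norm_num
    rw [hχ, Finset.mem_singleton] at hψL
    exact hψL
  · exfalso
    obtain ⟨X1, X2, h12, hX⟩ := Finset.card_eq_two.1 hm1
    obtain ⟨ψ, hψ⟩ := Finset.card_eq_one.1 hm2
    have m1 : X1 ∈ Live.filter (fun χ => decide ((f χ).1.1 = 1672 ∧ (f χ).2 = -6600) = true) := by rw [hX]; simp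
    have m2 : X2 ∈ Live.filter (fun χ => decide ((f χ).1.1 = 1672 ∧ (f χ).2 = -6600) = true) := by rw [hX]; simp
    have m3 : ψ ∈ Live.filter (fun χ => decide ((f χ).1.1 = 1881 ∧ (f χ).2 = -4675) = true) := by rw [hψ]; simp
    rw [Finset.mem_filter, decide_eq_true_eq] at m1 m2 m3
    have n1 : nn X1 = 1672 := by
      have : ((nn X1 : ℕ) : ℤ) = 1672 := m1.2.1
      exact_mod_cast this
    have n2 : nn X2 = 1672 := by
      have : ((nn X2 : ℕ) : ℤ) = 1672 := m2.2.1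
      exact_mod_cast this
    have n3 : nn ψ = 1881 := by
      have : ((nn ψ : ℕ) : ℤ) = 1881 := m3.2.1
      exact_mod_cast this
    have c1 := vv_of (mem_cand h (hLB X1 m1.1).1 (hLB X1 m1.1).2.1)
    have c2 := vv_of (mem_cand h (hLB X2 m2.1).1 (hLB X2 m2.1).2.1)
    have c3 := vv_of (mem_cand h (hLB ψ m3.1).1 (hLB ψ m3.1).2.1)
    exact no_second h12 (by rw [dd_nn h (hLB X1 m1.1).1, n1]) (by rw [dd_nn h (hLB X2 m2.1).1, n2])
      (by rw [dd_nn h (hLB ψ m3.1).1, n3]) m1.2.2 m2.2.2 m3.2.2 (c1.1 n1) (c2.1 n2) (c3.2 n3)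

end Cfsg.Agent.H456.LD.HN.Kill
end

-- part: H456/LD/HN/Chi
section
/-!
# Invariant rational characters of degrees 16929 and 653125 of the Harada–Norton group (helper456)

`H494/R4/HN.lean` for `MulAut HN`; the characters of odd degree restrict irreducibly to `HN`.
-/

set_option autoImplicit false
set_option maxRecDepth 10000

namespace Cfsg.Agent.H456.LD.HN.Chi

open Cfsg Cfsg.Agent.Characters.Core Cfsg.Agent.H443.HN.Scheme Cfsg.Agent.H443.HN.Frame Cfsg.Agent.HN.Distinct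
  Cfsg.Agent.HN Cfsg.Agent.HN.DCover Cfsg.Agent.HN.NormalH Cfsg.Agent.HN.Index Cfsg.Agent.H187.Scheme.HN
  Cfsg.Agent.H619.R4
open Cfsg.Agent.H494.R4.HN (cent_Q exists_perm φ φ_apply ty_of_norm card_T index_le_two Q)

universe u

/-- the group of the model -/
local notation "T" => Cfsg.Agent.H443.HN.Frame.G

set_option maxHeartbeats 2000000 in
theorem core {G : Type u} [Group G] [Finite G] {N : Subgroup G} [N.Normal]
    (hC : Subgroup.centralizer (N : Set G) = ⊥) (hidx : N.index ≤ 2) (e : T ≃* N) :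
    ∃ α β : IrrCharacter G, (α : G → ℂ) 1 = (16929 : ℕ) ∧ (β : G → ℂ) 1 = (653125 : ℕ) ∧ (∀ g, ∃ q : ℚ, (α : G → ℂ) g = q) ∧
      ∀ g, ∃ q : ℚ, (β : G → ℂ) g = q := by
  classical
  obtain ⟨F, hF, hx, hg⟩ := exists_act hC cent_Q exists_perm (φ.symm.trans e)
  let _ : MulAction G V := MulAction.compHom V F
  have hsm : ∀ (g : G) (x : V), g • x = F g x := fun g x => rfl
  have hi : ∀ (q : T) (x : V), ((e q : N) : G) • x = q • x := by
    intro q x
    have h1 := hx (φ q)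
    have h2 : (φ.symm.trans e) (φ q) = e q := by
      show e (φ.symm (φ q)) = e q
      rw [MulEquiv.symm_apply_apply]
    rw [h2] at h1
    rw [hsm, h1, φ_apply]
  have hty : ∀ (g : G) (x y : V), ty (g • x) (g • y) = ty x y := by
    intro g x y
    refine ty_of_norm (F g) (((φ.symm.trans e).trans (MulAut.conjNormal g)).trans (φ.symm.trans e).symm) ?_ x y
    intro q
    exact hg g q
  have htr : ∀ x y x' y' : V, ty x y = ty x' y' → ∃ g : G, g • x = x' ∧ g • y = y' := by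
    intro x y x' y' h
    obtain ⟨t, h1, h2⟩ := ty_trans x y x' y' h
    exact ⟨(e t : N), by rw [hi, h1], by rw [hi, h2]⟩
  have := Fintype.ofFinite G
  obtain ⟨χ, M, h1, h2, -, h4, h5, h6, h7⟩ : ∃ (χ : Fin 8 → G → ℂ) (M : Fin 8 → Fin 8 → ℕ),
      (∀ s, IsCharacter G (χ s)) ∧ (∀ s, χ s 1 = nn s) ∧ (∀ g : G, ∑ s, χ s g = Nat.card (MulAction.fixedBy V g)) ∧
      (∀ s g, ∃ q : ℚ, χ s g = q) ∧ (∀ s t, classInner (χ s) (χ t) = M s t) ∧ (∀ s, 0 < M s s) ∧
      ∑ s, ∑ t, M s t ≤ 9 := by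
    refine Cfsg.Agent.H38.K4.Scheme.main_rat (G := G) (ty := ty) (K := K) (i0 := 0) (i1 := 1) ty_zero ty_one count
      hty htr L th ok _root_.Cfsg.Agent.H187.Scheme.HN.eig pp prod_eq pp_ne cc DD cp sum_eq DD_ne nn (fun s => ?_) nn_ne
    rw [Nat.card_eq_fintype_card, Cfsg.Agent.H443.HN.Row.card_V]
    exact nn_eq s
  have hirr : ∀ s, M s s = 1 → IsIrrCharacter G (χ s) := fun s h =>
    isIrr_of_classInner_self (h1 s) (by rw [h5, h, Nat.cast_one])
  have hNc : Nat.card N = 273030912000000 := (Nat.card_congr e.toEquiv).symm.trans card_T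
  have hG : Nat.card G = 273030912000000 * N.index := by rw [← N.card_mul_index, hNc]
  have h0 : N.index ≠ 0 := Subgroup.index_ne_zero_of_finite
  have hne : M 1 1 ≠ 1 := by
    intro h
    have h8 := Blocks.Knorr.charDegree_dvd (hirr 1 h)
    have h9 : charDegree (χ 1) = 12749 := Cfsg.Agent.Blocks.Basic.charDegree_of_eq (h2 1)
    rw [h9, hG] at h8
    have h10 : N.index = 1 ∨ N.index = 2 := by (clear * - hidx h0; omega)
    rcases h10 with h10 | h10
    · rw [h10] at h8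
      revert h8
      norm_num
    · rw [h10] at h8
      revert h8
      norm_num
  have h11 : M 2 2 = 1 ∧ M 4 4 = 1 := by
    simp only [Fin.sum_univ_eight] at h7
    have e0 := h6 0
    have e1 := h6 1
    have e2 := h6 2
    have e3 := h6 3
    have e4 := h6 4
    have e5 := h6 5
    have e6 := h6 6
    have e7 := h6 7
    omega
  refine ⟨⟨χ 2, hirr 2 h11.1⟩, ⟨χ 4, hirr 4 h11.2⟩, ?_, ?_, h4 2, h4 4⟩
  · show χ 2 1 = _
    rw [h2 2]
    rfl
  · show χ 4 1 = _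
    rw [h2 4]
    rfl

open Cfsg.Agent.H954.LD (Inv)

/-- An irreducible character of odd degree of `MulAut T` gives an invariant character of `T`. -/
theorem exists_inv [Finite T] {β : IrrCharacter (MulAut T)} {n : ℕ} (hn : (β : MulAut T → ℂ) 1 = n)
    (hodd : Odd n) (hq : ∀ g, ∃ q : ℚ, (β : MulAut T → ℂ) g = q) :
    ∃ α : IrrCharacter T, (α : T → ℂ) 1 = n ∧ _root_.Cfsg.Agent.H954.LD.Inv α ∧ ∀ g, ∃ q : ℚ, (α : T → ℂ) g = q := by
  have := Fintype.ofFinite (MulAut T)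
  set N : Subgroup (MulAut T) := (MulAut.conj : T →* MulAut T).range with hN
  have hconj : ∀ (b : MulAut T) (s : T), MulAut.conj (b s) = b * MulAut.conj s * b⁻¹ := by
    intro b s
    ext x
    simp only [MulAut.mul_apply, MulAut.conj_apply, _root_.MulAut.inv_apply, _root_.map_mul, _root_.MulEquiv.apply_symm_apply, _root_.map_inv]
  have hnorm : N.Normal := by
    constructor
    rintro _ ⟨s, rfl⟩ b
    exact ⟨b s, hconj b s⟩
  have hd : charDegree (β : MulAut T → ℂ) = n := Cfsg.Agent.Blocks.Basic.charDegree_of_eq hn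
  have hcop : Nat.Coprime N.index (charDegree (β : MulAut T → ℂ)) := by
    have h0 : N.index ≠ 0 := Subgroup.index_ne_zero_of_finite
    have h2 := index_le_two
    have h3 : N.index = 1 ∨ N.index = 2 := by
      have : N.index ≤ 2 := h2
      omega
    rw [hd]
    rcases h3 with h3 | h3
    · rw [h3]; exact Nat.coprime_one_left n
    · rw [h3]; exact hodd.coprime_two_left
  have h1 := Cfsg.Agent.H597.Degrees.isIrr_restrict_of_coprime N β.2 hcop
  have h2 : IsIrrCharacter T (fun s => (β : MulAut T → ℂ) (MulAut.conj s)) := by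
    have h3 := isIrr_comp (MulAut.conj : T →* MulAut T).rangeRestrict
      (MulAut.conj : T →* MulAut T).rangeRestrict_surjective h1
    exact h3
  refine ⟨⟨_, h2⟩, ?_, ?_, fun g => hq _⟩
  · show (β : MulAut T → ℂ) (MulAut.conj 1) = n
    rw [map_one, hn]
  · intro b s
    show (β : MulAut T → ℂ) (MulAut.conj (b s)) = (β : MulAut T → ℂ) (MulAut.conj s)
    rw [hconj]
    exact isIrr_isClassFunction β.2 _ _

theorem main : ∃ α β : IrrCharacter T, (α : T → ℂ) 1 = (16929 : ℕ) ∧ (β : T → ℂ) 1 = (653125 : ℕ) ∧ _root_.Cfsg.Agent.H954.LD.Inv α ∧ _root_.Cfsg.Agent.H954.LD.Inv β ∧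
    ∀ g, ∃ q : ℚ, (β : T → ℂ) g = q := by
  have hs : IsSimpleGroup T := Cfsg.Agent.S1701.result.1
  have hf : Finite T := Nat.finite_of_card_ne_zero (by rw [card_T]; norm_num)
  have hna : ¬ IsMulCommutative T := fun h => Cfsg.Agent.H315.PwHN.notComm fun a b => h.is_comm.comm a b
  set N : Subgroup (MulAut T) := (MulAut.conj : T →* MulAut T).range with hN
  have hconj : ∀ (b : MulAut T) (s : T), MulAut.conj (b s) = b * MulAut.conj s * b⁻¹ := by
    intro b s
    ext x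
    simp only [MulAut.mul_apply, MulAut.conj_apply, _root_.MulAut.inv_apply, _root_.map_mul, _root_.MulEquiv.apply_symm_apply, _root_.map_inv]
  have hnorm : N.Normal := by
    constructor
    rintro _ ⟨s, rfl⟩ b
    exact ⟨b s, hconj b s⟩
  have hcen : Subgroup.center T = ⊥ := center_bot_of hna
  have hinj : Function.Injective (MulAut.conj : T →* MulAut T) := by
    rw [injective_iff_map_eq_one]
    intro a ha
    have : a ∈ Subgroup.center T := by
      rw [Subgroup.mem_center_iff]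
      intro g
      have h1 := congrArg (fun f : MulAut T => f g) ha
      simp only [MulAut.conj_apply, MulAut.one_apply] at h1
      rw [mul_inv_eq_iff_eq_mul] at h1
      exact h1.symm
    rw [hcen] at this
    exact this
  have hC : Subgroup.centralizer (N : Set (MulAut T)) = ⊥ := by
    rw [eq_bot_iff]
    intro b hb
    rw [Subgroup.mem_centralizer_iff] at hb
    rw [Subgroup.mem_bot]
    ext s
    have h1 := hb (MulAut.conj s) ⟨s, rfl⟩
    have h2 : MulAut.conj (b s) = MulAut.conj s := by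
      rw [hconj, ← h1, mul_inv_cancel_right]
    exact hinj h2
  obtain ⟨α, β, h1, h2, h3, h4⟩ := core hC index_le_two (MonoidHom.ofInjective hinj)
  obtain ⟨a, ha1, ha2, -⟩ := exists_inv (n := 16929) h1 (by decide) h3
  obtain ⟨b, hb1, hb2, hb3⟩ := exists_inv (n := 653125) h2 (by decide) h4
  exact ⟨a, b, ha1, hb1, ha2, hb2, hb3⟩

end Cfsg.Agent.H456.LD.HN.Chi
end

-- part: H456/LD/RowHN
section
/-!
# S4910: the row of the Harada–Norton group (helper456)

Degrees `16929` and `3200000`.  The invariant character of degree 16929 is a constituent of the permutation character on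
the 1539000 cosets of `2.HS.2`; the 5-block of the invariant character of degree 653125 has defect 1 and contains exactly
one character of degree 3200000.
-/

set_option autoImplicit false

open Cfsg
open Cfsg.Agent.Characters.Core

namespace Cfsg.Agent.H456.LD.HN

open Cfsg.Agent.H954.LD (Inv CopRow)

universe u

/-- **Two invariant characters of coprime degrees.** -/
theorem exists_pair : ∃ α β : IrrCharacter Cfsg.Spor.HN, (α : Cfsg.Spor.HN → ℂ) 1 = (16929 : ℕ) ∧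
    (β : Cfsg.Spor.HN → ℂ) 1 = (3200000 : ℕ) ∧ _root_.Cfsg.Agent.H954.LD.Inv α ∧ _root_.Cfsg.Agent.H954.LD.Inv β := by
  obtain ⟨α, χ0, h1, h2, h3, h4, h5⟩ := Chi.main
  obtain ⟨M, hM⟩ := Cfsg.Agent.Blocks.ExistsModular.exists_isPModular (by norm_num : Nat.Prime 5)
  have hH : Blk.Hyp M χ0 := ⟨hM, Cfsg.Agent.Blocks.Basic.charDegree_of_eq h2, h5⟩
  obtain ⟨χ, hχB, hχd, huniq⟩ := Kill.unique hH
  refine ⟨α, χ, h1, by rw [Blk.dd_eq, hχd], h3, ?_⟩
  intro b s
  have h6 : Cfsg.Agent.Blocks.ExtendedFMT.compIrr b χ0 = χ0 := Subtype.ext (funext fun x => h4 b x)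
  have h7 := Cfsg.Agent.Blocks.ExtendedFMT.sameBlock_compIrr b hχB
  rw [h6] at h7
  have h8 := huniq (Cfsg.Agent.Blocks.ExtendedFMT.compIrr b χ) h7 (by
    rw [← hχd]
    show charDegree (Cfsg.Agent.Blocks.ExtendedFMT.compIrr b χ : Cfsg.Spor.HN → ℂ) = charDegree (χ : Cfsg.Spor.HN → ℂ)
    unfold charDegree
    rw [Cfsg.Agent.Blocks.ExtendedFMT.compIrr_apply, map_one])
  rw [← Cfsg.Agent.Blocks.ExtendedFMT.compIrr_apply, h8]

end Cfsg.Agent.H456.LD.HN

namespace Cfsg.Agent.H456.LD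

open Cfsg.Agent.H954.LD (Inv CopRow)

universe u

/-- invariant characters through an isomorphism -/
theorem inv_comp {S : Type u} [Group S] {G : Type*} [Group G] (e : S ≃* G) {α : IrrCharacter G} (h : _root_.Cfsg.Agent.H954.LD.Inv α) :
    _root_.Cfsg.Agent.H954.LD.Inv (⟨(α : G → ℂ) ∘ e, isIrr_comp e.toMonoidHom e.surjective α.2⟩ : IrrCharacter S) := by
  intro b s
  have h1 := h ((e.symm.trans b).trans e) (e s)
  show (α : G → ℂ) (e (b s)) = (α : G → ℂ) (e s)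
  rw [← h1]
  show _ = (α : G → ℂ) (e (b (e.symm (e s))))
  rw [e.symm_apply_apply]

/-- **The row `HN`.** -/
theorem row_HN {S : Type u} [Group S] [Finite S] [IsSimpleGroup S] (hna : ¬ IsMulCommutative S) (h : Spor.IsoHN S) :
    CopRow S := by
  obtain ⟨e⟩ := h
  obtain ⟨α, β, h1, h2, h3, h4⟩ := HN.exists_pair
  have hout : Nat.card (Out S) ≤ 2 := by
    rw [Cfsg.Agent.H548.Crit.card_out_congr e, Cfsg.Agent.S2082.result]
  have e1 : charDegree ((α : Cfsg.Spor.HN → ℂ) ∘ e) = 16929 := by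
    apply Cfsg.Agent.Blocks.Basic.charDegree_of_eq
    rw [Function.comp_apply, map_one, h1]
  have e2 : charDegree ((β : Cfsg.Spor.HN → ℂ) ∘ e) = 3200000 := by
    apply Cfsg.Agent.Blocks.Basic.charDegree_of_eq
    rw [Function.comp_apply, map_one, h2]
  refine Cfsg.Agent.H954.LD.copRow_inv hna hout
    (α := ⟨(α : Cfsg.Spor.HN → ℂ) ∘ e, isIrr_comp e.toMonoidHom e.surjective α.2⟩)
    (β := ⟨(β : Cfsg.Spor.HN → ℂ) ∘ e, isIrr_comp e.toMonoidHom e.surjective β.2⟩) ?_ ?_ ?_ (inv_comp e h3) (inv_comp e h4)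
  · show charDegree ((α : Cfsg.Spor.HN → ℂ) ∘ e) ≠ 1
    rw [e1]; norm_num
  · show charDegree ((β : Cfsg.Spor.HN → ℂ) ∘ e) ≠ 1
    rw [e2]; norm_num
  · show Nat.Coprime (charDegree ((α : Cfsg.Spor.HN → ℂ) ∘ e)) (charDegree ((β : Cfsg.Spor.HN → ℂ) ∘ e))
    rw [e1, e2]; norm_num

end Cfsg.Agent.H456.LD
end

private theorem dce_affa639a2ebc : _root_.True := by
  try have : _root_.True := by simp only [_root_.Cfsg.Agent.H456.LD.HN.Grp.n0.eq_1]
  try have : _root_.True := by simp only [_root_.Cfsg.Agent.H456.LD.HN.Enum.chkA.eq_1]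
  try have : _root_.True := by simp only [_root_.Cfsg.Agent.H456.LD.HN.Enum.chkA.eq_def]
  try have : _root_.True := by simp only [_root_.Cfsg.Agent.H456.LD.HN.Enum.chkN.eq_2]
  try have : _root_.True := by simp only [_root_.Cfsg.Agent.H456.LD.HN.Enum.As.eq_1]
  try have : _root_.True := by simp only [_root_.Cfsg.Agent.H456.LD.HN.Grp.t.eq_1]
  try have : _root_.True := by simp only [_root_.Cfsg.Agent.H456.LD.HN.Types.Th.congr_simp]
  try have : _root_.True := by simp only [_root_.Cfsg.Agent.H456.LD.HN.Types.tyList.eq_1]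
  try have : _root_.True := by simp only [_root_.Cfsg.Agent.H456.LD.HN.Enum.candOK.eq_1]
  try have : _root_.True := by simp only [_root_.Cfsg.Agent.H456.LD.HN.Enum.okA.eq_1]
  try have : _root_.True := by simp only [_root_.Cfsg.Agent.H456.LD.HN.Enum.chkN.eq_1]
  try have : _root_.True := by simp only [_root_.Cfsg.Agent.H456.LD.HN.Enum.chkN.eq_def]
  try have : _root_.True := by simp only [_root_.Cfsg.Agent.H456.LD.HN.Types.Th.eq_1]
  try have : _root_.True := by simp only [_root_.Cfsg.Agent.H456.LD.HN.Enum.chkA.eq_2]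
  try have : _root_.True := by simp only [_root_.Cfsg.Agent.H456.LD.HN.Grp.z.eq_1]
  exact _root_.True.intro
end

-- part: H901/LD/RowMcL
section
prune_inst 0x4010000
set_option linter.all false
open scoped Cfsg.Agent.FastGrp

/-!
# S4910: the row of `McL` (helper901, task 5236): degrees 22 and 5103

The column of the elements of order 11 shows that there is only one character of degree 5103.
-/

set_option autoImplicit false
set_option linter.unusedSectionVars false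

namespace Cfsg.Agent.H901.LD

open Cfsg Cfsg.Agent.H954.LD Cfsg.Agent.Characters.Core Cfsg.Agent.H653.Sieve

universe u

namespace McL

def LL : List (ℕ × ℕ) := [(11, 1), (7, 1), (5, 3), (3, 6), (2, 7)]

def ex11 : List ℕ := [5, 6, 16, 27, 28, 50, 60, 72, 105, 126, 160, 192, 225, 270, 280, 324, 336, 500, 567, 600, 720,
  864, 875, 896, 1050, 1215, 1260, 1458, 1512, 1600, 1920, 2250, 2700, 2800, 3240, 3360, 3888, 4032, 4725, 5670, 6000,
  6804, 7200, 8640, 10125, 10368, 10500, 12150, 12600, 14580, 15120, 16000, 18144, 25515, 27000, 28000]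

def good (d : ℕ) : Bool := Nat.ble 898128000 (d * d) || !(Nat.beq (d % 11) 5 || Nat.beq (d % 11) 6) || ex11.contains d

theorem hdiv : allDiv 898128000 good LL 1 = true := by decide +kernel

def sg (d : ℕ) : ℤ := bif Nat.beq (d % 11) 6 then 1 else -1

theorem num : ∀ a ∈ ex11, ∀ b ∈ ex11, sg a * a + sg b * b ≠ 11914 := by decide +kernel

theorem mem_ex {d : ℕ} (hd : d ∣ 898128000) (h2 : d * d < 898128000) (h : d % 11 = 5 ∨ d % 11 = 6) : d ∈ ex11 := by
  have h1 := allDiv_spec (L := LL) (by decide +kernel) hdiv d (by rw [show facProd LL = 898128000 by decide +kernel]; exact hd)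
    (by rw [one_mul]; exact h2)
  rw [one_mul, good] at h1
  have h3 : (!(Nat.beq (d % 11) 5 || Nat.beq (d % 11) 6)) = false := by
    rcases h with h | h <;> rw [h] <;> decide
  have h4 : Nat.ble 898128000 (d * d) = false := by
    rw [Bool.eq_false_iff]
    intro h5
    exact absurd (Nat.le_of_ble_eq_true h5) (by omega)
  rw [h3, h4, Bool.false_or, Bool.false_or] at h1
  simpa using h1

end McL

section

variable {S : Type u} [Group S] [Finite S]

theorem exists_one : ∃ χ : IrrCharacter S, charDegree (χ : S → ℂ) = 1 := by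
  have h1 : IsIrrCharacter S (fun _ : S => (1 : ℂ)) := Blocks.Basic.isIrrCharacter_one
  refine ⟨⟨_, h1⟩, ?_⟩
  have h2 := Blocks.Basic.irr_one_eq_charDegree h1
  exact_mod_cast h2.symm

theorem deg_sq_lt (hN : Nat.card S = 898128000) (χ : IrrCharacter S) :
    charDegree (χ : S → ℂ) * charDegree (χ : S → ℂ) < 898128000 := by
  classical
  have : Fintype (IrrCharacter S) := by
    have : Finite (IrrCharacter S) := finite_irr
    exact Fintype.ofFinite _
  have h1 := H686.CharKit.sum_deg_sq (G := S)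
  have h2 : charDegree (χ : S → ℂ) ^ 2 ≤ ∑ χ : IrrCharacter S, charDegree (χ : S → ℂ) ^ 2 :=
    Finset.single_le_sum (f := fun χ : IrrCharacter S => charDegree (χ : S → ℂ) ^ 2) (fun _ _ => Nat.zero_le _)
      (Finset.mem_univ χ)
  rw [h1, hN, sq] at h2
  refine lt_of_le_of_ne h2 fun h3 => ?_
  have h4 : charDegree (χ : S → ℂ) ≤ 29968 ∨ 29969 ≤ charDegree (χ : S → ℂ) := by omega
  rcases h4 with h4 | h4
  · have := Nat.mul_le_mul h4 h4
    omega
  · have := Nat.mul_le_mul h4 h4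
    omega

theorem unique_5103 [IsSimpleGroup S] (hna : ¬ IsMulCommutative S) (h : Spor.IsoMcL S) {β ψ : IrrCharacter S}
    (hβ : charDegree (β : S → ℂ) = 5103) (hψ : charDegree (ψ : S → ℂ) = 5103) : ψ = β := by
  classical
  have hN := H904.McLCent.card_L h
  have : Fintype (IrrCharacter S) := by
    have : Finite (IrrCharacter S) := finite_irr
    exact Fintype.ofFinite _
  have hf11 : Fact (Nat.Prime 11) := ⟨by norm_num⟩
  obtain ⟨x, hx⟩ := exists_prime_orderOf_dvd_card' (G := S) 11 (by rw [hN]; norm_num)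
  have hc : Nat.card (Subgroup.centralizer ({x} : Set S)) = 11 * 1 := by
    have h1 := (H904.McLCent.eleven h (Subgroup.zpowers x) (by rw [Nat.card_zpowers, hx])).1
    rw [SmallSimple.SelfCentPrime.centralizer_zpowers] at h1
    rw [h1]
  obtain ⟨P, W, -, -, -, hW⟩ := exists_col hna hN hx hc 5 2 [(0, 0), (1, 2), (5, -1), (6, 1), (10, -2)] 2 true
    (by decide +kernel)
  by_contra hne
  obtain ⟨φ1, hφ1⟩ : ∃ χ : IrrCharacter S, charDegree (χ : S → ℂ) = 1 := H901.LD.exists_one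
  obtain ⟨φ2, hφ2⟩ := H593.IMSpor.mcl_252 h
  obtain ⟨-, ⟨φ3, hφ3⟩, -⟩ := H174.Two.McL.mcl_deg h
  have hmem : ∀ χ : IrrCharacter S, (charDegree (χ : S → ℂ) % 11, W χ) ∈
      [((0 : ℕ), (0 : ℤ)), (1, 2), (5, -1), (6, 1), (10, -2)] := hW.mem
  have w1 : W φ1 = 2 := by have := hmem φ1; rw [hφ1] at this; simpa using this
  have w2 : W φ2 = -2 := by have := hmem φ2; rw [hφ2] at this; simpa using this
  have w3 : W φ3 = 2 := by have := hmem φ3; rw [hφ3] at this; simpa using this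
  have w4 : W β = -2 := by have := hmem β; rw [hβ] at this; simpa using this
  have w5 : W ψ = -2 := by have := hmem ψ; rw [hψ] at this; simpa using this
  have hd : ∀ {χ χ' : IrrCharacter S}, charDegree (χ : S → ℂ) ≠ charDegree (χ' : S → ℂ) → χ ≠ χ' := by
    rintro χ χ' h1 rfl
    exact h1 rfl
  obtain ⟨A, hA⟩ : ∃ A : Finset (IrrCharacter S), A = {φ1, φ2, φ3, β, ψ} := ⟨_, rfl⟩
  have hsum : ∀ f : IrrCharacter S → ℤ, ∑ χ ∈ A, f χ = f φ1 + (f φ2 + (f φ3 + (f β + f ψ))) := by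
    intro f
    rw [hA, Finset.sum_insert, Finset.sum_insert, Finset.sum_insert, Finset.sum_insert, Finset.sum_singleton]
    · simp only [Finset.mem_singleton]
      exact fun h1 => hne h1.symm
    · simp only [Finset.mem_insert, Finset.mem_singleton, not_or]
      exact ⟨hd (by rw [hφ3, hβ]; norm_num), hd (by rw [hφ3, hψ]; norm_num)⟩
    · simp only [Finset.mem_insert, Finset.mem_singleton, not_or]
      exact ⟨hd (by rw [hφ2, hφ3]; norm_num), hd (by rw [hφ2, hβ]; norm_num), hd (by rw [hφ2, hψ]; norm_num)⟩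
    · simp only [Finset.mem_insert, Finset.mem_singleton, not_or]
      exact ⟨hd (by rw [hφ1, hφ2]; norm_num), hd (by rw [hφ1, hφ3]; norm_num), hd (by rw [hφ1, hβ]; norm_num),
        hd (by rw [hφ1, hψ]; norm_num)⟩
  obtain ⟨B, hB⟩ : ∃ B : Finset (IrrCharacter S), B = (Finset.univ \ A).filter fun χ => W χ ≠ 0 := ⟨_, rfl⟩
  have hsplit : ∀ f : IrrCharacter S → ℤ, (∀ χ, W χ = 0 → f χ = 0) → ∑ χ, f χ = ∑ χ ∈ B, f χ + ∑ χ ∈ A, f χ := by
    intro f hf
    rw [← Finset.sum_sdiff (Finset.subset_univ A)]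
    congr 1
    rw [hB, Finset.sum_filter]
    refine Finset.sum_congr rfl fun χ _ => ?_
    by_cases h0 : W χ = 0
    · rw [if_neg (not_not.2 h0), hf χ h0]
    · rw [if_pos h0]
  have hdeg : ∑ χ : IrrCharacter S, W χ * (charDegree (χ : S → ℂ) : ℤ) = 0 := hW.deg
  have hsq : ∑ χ : IrrCharacter S, W χ * W χ = 22 := by
    have := hW.sq
    simpa using this
  rw [hsplit _ (fun χ h0 => by rw [h0, zero_mul]), hsum, w1, w2, w3, w4, w5, hφ1, hφ2, hφ3, hβ, hψ] at hdeg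
  rw [hsplit _ (fun χ h0 => by rw [h0, zero_mul]), hsum, w1, w2, w3, w4, w5] at hsq
  have hsq' : ∑ χ ∈ B, W χ * W χ = 2 := by linarith
  have hdeg' : ∑ χ ∈ B, W χ * (charDegree (χ : S → ℂ) : ℤ) = 11914 := by
    push_cast at hdeg
    linarith
  have hB0 : ∀ χ ∈ B, W χ ≠ 0 := fun χ hχ => by
    rw [hB] at hχ
    exact (Finset.mem_filter.1 hχ).2
  have hval : ∀ χ, W χ = 0 ∨ W χ * W χ = 4 ∨
      (W χ * W χ = 1 ∧ charDegree (χ : S → ℂ) ∈ McL.ex11 ∧ W χ = McL.sg (charDegree (χ : S → ℂ))) := by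
    intro χ
    have h1 := hmem χ
    simp only [List.mem_cons, Prod.mk.injEq, List.not_mem_nil, or_false] at h1
    have hdv := H678.Codeg.charDegree_dvd_card χ
    rw [hN] at hdv
    rcases h1 with ⟨-, h1⟩ | ⟨-, h1⟩ | ⟨h0, h1⟩ | ⟨h0, h1⟩ | ⟨-, h1⟩
    · exact Or.inl h1
    · exact Or.inr (Or.inl (by rw [h1]; norm_num))
    · refine Or.inr (Or.inr ⟨by rw [h1]; norm_num, McL.mem_ex hdv (deg_sq_lt hN χ) (Or.inl h0), ?_⟩)
      rw [h1, McL.sg, h0]; rfl
    · refine Or.inr (Or.inr ⟨by rw [h1]; norm_num, McL.mem_ex hdv (deg_sq_lt hN χ) (Or.inr h0), ?_⟩)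
      rw [h1, McL.sg, h0]; rfl
    · exact Or.inr (Or.inl (by rw [h1]; norm_num))
  -- every member of `B` has `|W| = 1`
  have hone : ∀ χ ∈ B, W χ * W χ = 1 ∧ charDegree (χ : S → ℂ) ∈ McL.ex11 ∧ W χ = McL.sg (charDegree (χ : S → ℂ)) := by
    intro χ hχ
    rcases hval χ with h1 | h1 | h1
    · exact absurd h1 (hB0 χ hχ)
    · exfalso
      have h2 : W χ * W χ ≤ ∑ χ ∈ B, W χ * W χ :=
        Finset.single_le_sum (f := fun χ => W χ * W χ) (fun χ _ => mul_self_nonneg _) hχ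
      rw [h1, hsq'] at h2
      omega
    · exact h1
  have hcard : B.card = 2 := by
    have h1 : ∑ χ ∈ B, W χ * W χ = ∑ χ ∈ B, (1 : ℤ) := Finset.sum_congr rfl fun χ hχ => (hone χ hχ).1
    rw [hsq', Finset.sum_const, nsmul_eq_mul, mul_one] at h1
    exact_mod_cast h1.symm
  obtain ⟨x1, x2, h12, hBe⟩ := Finset.card_eq_two.1 hcard
  rw [hBe, Finset.sum_pair h12] at hdeg'
  obtain ⟨-, h3, h4⟩ := hone x1 (by rw [hBe]; simp)
  obtain ⟨-, h5, h6⟩ := hone x2 (by rw [hBe]; simp)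
  rw [h4, h6] at hdeg'
  exact McL.num _ h3 _ h5 hdeg'

/-- **The row of `McL`.** -/
theorem row_McL [IsSimpleGroup S] (hna : ¬ IsMulCommutative S) (h : Spor.IsoMcL S) : H954.LD.CopRow S := by
  have h2 : Nat.card (Out S) ≤ 2 := H489.card_out_sporadic (by unfold IsSporadicGroup; tauto)
  obtain ⟨-, -, ⟨β, hβ⟩⟩ := H174.Two.McL.mcl_deg h
  have hiβ : Inv β := inv_of_unique fun ψ hψ => unique_5103 hna h hβ (hψ.trans hβ)
  obtain ⟨e⟩ := h
  obtain ⟨α, hα, hα1, hinv⟩ := H732.DS.exists_inv_22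
  let a : IrrCharacter S := ⟨α ∘ e.toMonoidHom, isIrr_comp e.toMonoidHom e.surjective hα⟩
  have ha : charDegree (a : S → ℂ) = 22 := by
    have h3 : (a : S → ℂ) 1 = 22 := by
      show α (e 1) = 22
      rw [map_one, hα1]
    have h4 := Blocks.Basic.irr_one_eq_charDegree a.2
    rw [h3] at h4
    exact_mod_cast h4.symm
  have hia : Inv a := by
    intro b s
    show α (e (b s)) = α (e s)
    have h3 := hinv ((e.symm.trans b).trans e) (e s)
    simpa using h3
  refine copRow_inv hna h2 (α := a) (β := β) (by rw [ha]; norm_num) (by rw [hβ]; norm_num) ?_ hia hiβ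
  rw [ha, hβ]
  norm_num

end

end Cfsg.Agent.H901.LD

private theorem dce_27eab48737de : _root_.True := by
  try have : _root_.True := by simp only [_root_.Cfsg.Agent.H901.LD.McL.good.eq_1]
  try have : _root_.True := by simp only [_root_.Cfsg.Agent.H901.LD.McL.sg.eq_1]
  exact _root_.True.intro
end
end
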